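import Mathlib

/-! Cauchy's determinant, in the multiplicative form. -/

set_option autoImplicit false

open Matrix Finset

namespace Cfsg.Lib.FlagCells

/-- The product of the differences. -/
def diffProd {R : Type*} [CommRing R] {m : ℕ} (x : Fin m → R) : R :=
  ∏ i : Fin m, ∏ j : Fin m, if i < j then x j - x i else 1

theorem diffProd_eq_det {R : Type*} [CommRing R] {m : ℕ} (x : Fin m → R) :
    diffProd x = (Matrix.vandermonde x).det := by
  rw [Matrix.det_vandermonde, diffProd]
  refine Finset.prod_congr rfl fun i _ => ?_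
  rw [← Finset.prod_filter]
  congr 1
  ext j
  simp

theorem diffProd_succ {R : Type*} [CommRing R] {m : ℕ} (x : Fin (m + 1) → R) :
    diffProd x = diffProd (fun i => x i.castSucc) * ∏ i : Fin m, (x (Fin.last m) - x i.castSucc) := by
  simp only [diffProd, Fin.prod_univ_castSucc]
  rw [← Finset.prod_mul_distrib]
  simp [Fin.castSucc_lt_castSucc_iff, Fin.castSucc_lt_last, (Fin.castSucc_lt_last _).not_gt]

theorem cauchy_det {K : Type*} [Field K] : ∀ {m : ℕ} (x y : Fin m → K),
    (∀ i j, 1 - x i * y j ≠ 0) →
    (Matrix.of fun i j => 1 / (1 - x i * y j)).det * ∏ i, ∏ j, (1 - x i * y j) =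
      diffProd x * diffProd y := by
  intro m
  induction m with
  | zero => intro x y _; simp [diffProd]
  | succ m ih =>
    intro x y h
    set a : Fin m → K := fun i => x i.castSucc with ha
    set b : Fin m → K := fun j => y j.castSucc with hb
    set u := x (Fin.last m) with hu
    set v := y (Fin.last m) with hv
    have hi := ih a b fun i j => h _ _
    set C := Matrix.of fun i j => 1 / (1 - x i * y j) with hC
    set A : Matrix (Fin (m + 1)) (Fin (m + 1)) K := Matrix.of fun i j =>
      if i = Fin.last m then 1 else y j / (1 - x i * y j) with hA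
    set c : Fin (m + 1) → K := fun j => 1 / (1 - u * y j) with hc
    set d : Fin (m + 1) → K := fun i => if i = Fin.last m then 1 else x i - u with hd
    have e1 : C.det = (∏ i, d i) * ((∏ j, c j) * A.det) := by
      rw [← Matrix.det_mul_row c A, ← Matrix.det_mul_column d]
      refine (Matrix.det_eq_of_forall_row_eq_smul_add_const
        (fun i => if i = Fin.last m then 0 else -1) (Fin.last m) (if_pos rfl) fun i j => ?_).symm
      simp only [Matrix.of_apply, hA, hd, hC, hc]
      split_ifs with hi'
      · subst hi'; rw [← hu]; ring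
      · have h1 := h i j
        have h2 := h (Fin.last m) j
        rw [← hu] at h2
        rw [← hu]
        field_simp
        ring
    set e : Fin (m + 1) → K := fun j => if j = Fin.last m then 1 else y j - v with he
    set f : Fin (m + 1) → K := fun i => if i = Fin.last m then 1 else 1 / (1 - x i * v) with hf
    set A' : Matrix (Fin (m + 1)) (Fin (m + 1)) K := Matrix.of fun i j =>
      if i = Fin.last m then (if j = Fin.last m then 1 else 0)
      else if j = Fin.last m then v else 1 / (1 - x i * y j) with hA'
    have e2 : A.det = (∏ j, e j) * ((∏ i, f i) * A'.det) := by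
      rw [← Matrix.det_mul_column f A', ← Matrix.det_mul_row e, ← Matrix.det_transpose A,
        ← Matrix.det_transpose (Matrix.of fun i j => e j * (Matrix.of fun i j => f i * A' i j) i j)]
      refine (Matrix.det_eq_of_forall_row_eq_smul_add_const
        (fun j => if j = Fin.last m then 0 else -1) (Fin.last m) (if_pos rfl) fun j i => ?_).symm
      simp only [Matrix.transpose_apply, Matrix.of_apply, hA, hA', he, hf]
      by_cases hj : j = Fin.last m
      · subst hj
        by_cases hi' : i = Fin.last m
        · simp [hi']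
        · simp only [hi', if_true, if_false, ← hv]
          ring
      · by_cases hi' : i = Fin.last m
        · simp [hi', hj]
        · have h1 := h i j
          have h2 := h i (Fin.last m)
          rw [← hv] at h2
          simp only [hi', hj, if_false, ← hv]
          rw [show y j - v = y j * (1 - x i * v) - v * (1 - x i * y j) by ring]
          generalize 1 - x i * v = Q at h2 ⊢
          generalize 1 - x i * y j = P at h1 ⊢
          field_simp
          ring
    have e3 : A'.det = (Matrix.of fun i j => 1 / (1 - a i * b j)).det := by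
      rw [Matrix.det_succ_row A' (Fin.last m), Finset.sum_eq_single (Fin.last m)]
      · rw [Fin.succAbove_last]
        simp only [hA', Matrix.of_apply, if_true, Fin.val_last, mul_one]
        rw [Even.neg_one_pow ⟨m, rfl⟩, one_mul]
        congr 1
        ext i j
        simp [ha, hb, (Fin.castSucc_lt_last i).ne, (Fin.castSucc_lt_last j).ne]
      · intro j _ hj
        simp [hA', hj]
      · simp
    have pd : ∏ i, d i = ∏ i, (a i - u) := by
      rw [Fin.prod_univ_castSucc]; simp [hd, ha, (Fin.castSucc_lt_last _).ne]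
    have pe : ∏ j, e j = ∏ j, (b j - v) := by
      rw [Fin.prod_univ_castSucc]; simp [he, hb, (Fin.castSucc_lt_last _).ne]
    have pf : ∏ i, f i = ∏ i, 1 / (1 - a i * v) := by
      rw [Fin.prod_univ_castSucc]; simp [hf, ha, (Fin.castSucc_lt_last _).ne]
    have pc : ∏ j, c j = (∏ j, 1 / (1 - u * b j)) * (1 / (1 - u * v)) := by
      rw [Fin.prod_univ_castSucc]
    have pp : ∏ i, ∏ j, (1 - x i * y j) = (∏ i, ∏ j, (1 - a i * b j)) * (∏ i, (1 - a i * v)) *
        ((∏ j, (1 - u * b j)) * (1 - u * v)) := by
      simp only [Fin.prod_univ_castSucc, Finset.prod_mul_distrib, ha, hb, ← hu, ← hv]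
      ring
    rw [e1, e2, e3, pd, pe, pf, pc, pp, diffProd_succ x, diffProd_succ y]
    have sgn : (∏ i, (a i - u)) * ∏ j, (b j - v) =
        (∏ i, (u - a i)) * ∏ j, (v - b j) := by
      rw [← Finset.prod_mul_distrib, ← Finset.prod_mul_distrib]
      exact Finset.prod_congr rfl fun i _ => by ring
    have q1 : (∏ i, 1 / (1 - a i * v)) * ∏ i, (1 - a i * v) = 1 := by
      rw [← Finset.prod_mul_distrib]
      exact Finset.prod_eq_one fun i _ => one_div_mul_cancel (h _ _)
    have q2 : (∏ j, 1 / (1 - u * b j)) * ∏ j, (1 - u * b j) = 1 := by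
      rw [← Finset.prod_mul_distrib]
      exact Finset.prod_eq_one fun j _ => one_div_mul_cancel (h _ _)
    have q3 : (1 / (1 - u * v)) * (1 - u * v) = 1 := one_div_mul_cancel (h _ _)
    calc _ = ((∏ i, (a i - u)) * ∏ j, (b j - v)) *
          ((Matrix.of fun i j => 1 / (1 - a i * b j)).det * ∏ i, ∏ j, (1 - a i * b j)) *
          (((∏ i, 1 / (1 - a i * v)) * ∏ i, (1 - a i * v)) *
            ((∏ j, 1 / (1 - u * b j)) * ∏ j, (1 - u * b j)) * (1 / (1 - u * v) * (1 - u * v))) := by
          ring
      _ = _ := by rw [q1, q2, q3, hi, sgn]; ring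

/-- Cauchy's identity between polynomials. -/
theorem cauchy_poly (n : ℕ) :
    (∑ σ : Equiv.Perm (Fin n), (Equiv.Perm.sign σ : ℤ) •
      ∏ p ∈ Finset.univ.filter (fun p : Fin n × Fin n => p.2 ≠ σ p.1),
        ((1 : MvPolynomial (Fin n ⊕ Fin n) ℤ) - MvPolynomial.X (Sum.inl p.1) * MvPolynomial.X (Sum.inr p.2))) =
      (Matrix.vandermonde fun i => (MvPolynomial.X (Sum.inl i) : MvPolynomial (Fin n ⊕ Fin n) ℤ)).det *
        (Matrix.vandermonde fun j => (MvPolynomial.X (Sum.inr j) : MvPolynomial (Fin n ⊕ Fin n) ℤ)).det := by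
  set φ := algebraMap (MvPolynomial (Fin n ⊕ Fin n) ℤ) (FractionRing (MvPolynomial (Fin n ⊕ Fin n) ℤ))
  have hφ : Function.Injective φ := IsFractionRing.injective _ _
  apply hφ
  set x := fun i => φ (MvPolynomial.X (Sum.inl i : Fin n ⊕ Fin n)) with hx
  set y := fun j => φ (MvPolynomial.X (Sum.inr j : Fin n ⊕ Fin n)) with hy
  have hne : ∀ i j, 1 - x i * y j ≠ 0 := by
    intro i j h
    have h1 : (1 : MvPolynomial (Fin n ⊕ Fin n) ℤ) - MvPolynomial.X (Sum.inl i) * MvPolynomial.X (Sum.inr j) = 0 :=
      hφ (by simpa [hx, hy] using h)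
    simpa using congrArg MvPolynomial.constantCoeff h1
  rw [← diffProd_eq_det, ← diffProd_eq_det, map_mul,
    show φ (diffProd fun i => MvPolynomial.X (Sum.inl i)) = diffProd x by simp [diffProd, apply_ite φ, hx],
    show φ (diffProd fun i => MvPolynomial.X (Sum.inr i)) = diffProd y by simp [diffProd, apply_ite φ, hy],
    ← cauchy_det x y hne, ← Matrix.det_transpose, Matrix.det_apply, Finset.sum_mul, map_sum]
  refine Finset.sum_congr rfl fun σ _ => ?_
  rw [map_zsmul, map_prod, Units.smul_def, smul_mul_assoc]
  congr 1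
  rw [← Fintype.prod_prod_type' (f := fun i j => 1 - x i * y j),
    ← Finset.prod_filter_mul_prod_filter_not Finset.univ (fun p : Fin n × Fin n => p.2 = σ p.1)
      (fun p => 1 - x p.1 * y p.2), ← mul_assoc]
  have e : ∏ p ∈ Finset.univ.filter (fun p : Fin n × Fin n => p.2 = σ p.1), (1 - x p.1 * y p.2) =
      ∏ i, (1 - x i * y (σ i)) := by
    refine Finset.prod_nbij' (fun p => p.1) (fun i => (i, σ i)) (by simp) (by simp) ?_ (by simp) ?_
    · intro p hp; simp at hp; exact Prod.ext rfl hp.symm
    · intro p hp; simp at hp; rw [hp]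
  have e5 : (∏ i, (Matrix.of fun i j => 1 / (1 - x i * y j))ᵀ (σ i) i) * ∏ i, (1 - x i * y (σ i)) = 1 := by
    rw [← Finset.prod_mul_distrib]
    exact Finset.prod_eq_one fun i _ => by simpa using one_div_mul_cancel (hne i (σ i))
  rw [e, e5, one_mul]
  exact Finset.prod_congr rfl fun p _ => by simp [hx, hy]

end Cfsg.Lib.FlagCells
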