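import Cfsg.Agent.Known.SLFlag.Ortho
import Cfsg.Agent.S2420

/-! The degrees of the alternating sums of flag characters. -/

set_option autoImplicit false

namespace Cfsg.Lib.FlagCells

/-- The `q`-integer. -/
def qInt (q r : ℕ) : ℕ := ∑ l ∈ Finset.range r, q ^ l

/-- The `q`-factorial. -/
def qFact (q r : ℕ) : ℕ := ∏ j ∈ Finset.range r, qInt q (j + 1)

/-- The falling `q`-factorial. -/
def qDesc (q r k : ℕ) : ℕ := ∏ t ∈ Finset.range k, qInt q (r - t)

theorem qInt_zero (q : ℕ) : qInt q 0 = 0 := rfl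

theorem qInt_pos {q r : ℕ} (hr : 0 < r) : 0 < qInt q r :=
  Finset.sum_pos' (fun _ _ => Nat.zero_le _) ⟨0, Finset.mem_range.2 hr, by simp⟩

theorem qInt_add (q s t : ℕ) : qInt q (t + s) = qInt q t + q ^ t * qInt q s := by
  simp [qInt, Finset.sum_range_add, Finset.mul_sum, pow_add]

theorem qInt_strictMono {q : ℕ} (hq : 0 < q) : StrictMono (qInt q) := by
  refine strictMono_nat_of_lt_succ fun r => ?_
  have := qInt_add q 1 r
  have h1 : 0 < q ^ r * qInt q 1 := Nat.mul_pos (pow_pos hq r) (qInt_pos one_pos)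
  omega

theorem qDesc_eq_zero {q r k : ℕ} (h : r < k) : qDesc q r k = 0 :=
  Finset.prod_eq_zero (Finset.mem_range.2 h) (by rw [Nat.sub_self, qInt_zero])

theorem qDesc_mul {q r : ℕ} : ∀ {k : ℕ}, k ≤ r → qDesc q r k * qFact q (r - k) = qFact q r := by
  intro k
  induction k with
  | zero => intro _; simp [qDesc]
  | succ k ih =>
    intro hk
    rw [← ih (by omega), qDesc, Finset.prod_range_succ, mul_assoc]
    congr 1
    rw [qFact, qFact, show r - k = (r - (k + 1)) + 1 by omega, Finset.prod_range_succ, mul_comm]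

theorem qDesc_cast (q r k : ℕ) :
    (qDesc q r k : ℂ) * (q : ℂ) ^ (∑ t ∈ Finset.range k, t) =
      ∏ t ∈ Finset.range k, ((qInt q r : ℂ) - (qInt q t : ℂ)) := by
  induction k with
  | zero => simp [qDesc]
  | succ k ih =>
    rw [qDesc, Finset.prod_range_succ, ← qDesc, Finset.sum_range_succ, Finset.prod_range_succ, ← ih,
      Nat.cast_mul, pow_add]
    rcases le_or_gt k r with h | h
    · obtain ⟨s, rfl⟩ := Nat.exists_eq_add_of_le h
      rw [qInt_add, Nat.add_sub_cancel_left]
      push_cast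
      ring
    · rw [qDesc_eq_zero h]
      simp

theorem six_mul_sum_range (n : ℕ) :
    6 * ∑ i ∈ Finset.range n, ∑ t ∈ Finset.range i, t = n * (n - 1) * (n - 2) := by
  induction n with
  | zero => rfl
  | succ n ih =>
    rw [Finset.sum_range_succ, mul_add, ih]
    have h2 := Finset.sum_range_id_mul_two n
    rw [show 6 * ∑ t ∈ Finset.range n, t = 3 * ((∑ t ∈ Finset.range n, t) * 2) by ring, h2]
    rcases n with _ | _ | n
    · rfl
    · rfl
    · simp only [Nat.add_sub_cancel, show n + 1 + 1 - 1 = n + 1 by omega, show n + 1 + 1 - 2 = n by omega,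
        show n + 1 + 1 + 1 - 1 = n + 2 by omega, show n + 1 + 1 + 1 - 2 = n + 1 by omega]
      ring

open Polynomial in
/-- The degree formula. -/
theorem unipotent_degree {F : Type*} [Field F] [Fintype F] {n : ℕ} (ν : Fin n → ℕ)
    (hsum : ∑ i, ν i = n) :
    Cfsg.unipotentCharacterGL n F ν 1 * (Fintype.card F : ℂ) ^ (n * (n - 1) * (n - 2) / 6) *
        ∏ i : Fin n, (qFact (Fintype.card F) (ν i + i.val) : ℂ) =
      (qFact (Fintype.card F) n : ℂ) *
        ∏ i : Fin n, ∏ j ∈ Finset.univ.filter (fun j : Fin n => i < j),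
          ((qInt (Fintype.card F) (ν j + j.val) : ℂ) - (qInt (Fintype.card F) (ν i + i.val) : ℂ)) := by
  classical
  set q := Fintype.card F
  have hexp : n * (n - 1) * (n - 2) / 6 = ∑ i : Fin n, ∑ t ∈ Finset.range i.val, t := by
    rw [← six_mul_sum_range, Nat.mul_div_cancel_left _ (by norm_num),
      Fin.sum_univ_eq_sum_range (fun i => ∑ t ∈ Finset.range i, t)]
  have hterm : ∀ κ : Equiv.Perm (Fin n),
      (if ∀ i : Fin n, (κ i).val ≤ ν i + i.val then ((Equiv.Perm.sign κ : ℤ) : ℂ) *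
          Cfsg.fixedPointCharacter (Cfsg.parabolicGL n F fun i => ν i + i.val - (κ i).val) 1 else 0) *
        ∏ i : Fin n, (qFact q (ν i + i.val) : ℂ) =
      ((Equiv.Perm.sign κ : ℤ) : ℂ) * ((qFact q n : ℂ) * ∏ i : Fin n, (qDesc q (ν i + i.val) (κ i).val : ℂ)) := by
    intro κ
    split_ifs with hκ
    · rw [Finset.prod_congr rfl fun i _ => by rw [← qDesc_mul (hκ i), Nat.cast_mul],
        Finset.prod_mul_distrib]
      have h := Cfsg.Agent.S2420.result (F := F) rfl (fun i => ν i + i.val - (κ i).val) (sum_comp_eq hsum hκ)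
      have h' : (Nat.card (GL (Fin n) F ⧸ Cfsg.parabolicGL n F fun i => ν i + i.val - (κ i).val) : ℂ) *
          ∏ i : Fin n, (qFact q (ν i + i.val - (κ i).val) : ℂ) = (qFact q n : ℂ) := by
        rw [← Nat.cast_prod, ← Nat.cast_mul]
        exact congrArg Nat.cast h
      have hfp : Cfsg.fixedPointCharacter (Cfsg.parabolicGL n F fun i => ν i + i.val - (κ i).val) 1 =
          (Nat.card (GL (Fin n) F ⧸ Cfsg.parabolicGL n F fun i => ν i + i.val - (κ i).val) : ℂ) := by
        simp [Cfsg.fixedPointCharacter, MulAction.fixedBy]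
      rw [hfp, ← h']
      ring
    · push Not at hκ
      obtain ⟨i, hi⟩ := hκ
      rw [Finset.prod_eq_zero (f := fun i : Fin n => (qDesc q (ν i + i.val) (κ i).val : ℂ))
        (Finset.mem_univ i) (by rw [qDesc_eq_zero hi, Nat.cast_zero])]
      simp
  set x : Fin n → ℂ := fun i => (qInt q (ν i + i.val) : ℂ) with hx
  let P : Fin n → ℂ[X] := fun j => ∏ t ∈ Finset.range j.val, (Polynomial.X - Polynomial.C (qInt q t : ℂ))
  have hdeg : ∀ j, (P j).natDegree = j.val := fun j => by
    simp only [P]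
    rw [Polynomial.natDegree_prod_of_monic _ _ (fun t _ => monic_X_sub_C _)]
    simp only [natDegree_X_sub_C, Finset.sum_const, Finset.card_range, smul_eq_mul, mul_one]
  have hdet := Matrix.det_eval_matrixOfPolynomials_eq_det_vandermonde x P hdeg
    (fun j => monic_prod_of_monic _ _ fun t _ => monic_X_sub_C _)
  rw [Matrix.det_vandermonde, ← Matrix.det_transpose, Matrix.det_apply] at hdet
  rw [show ∏ i : Fin n, ∏ j ∈ Finset.univ.filter (fun j : Fin n => i < j),
      ((qInt q (ν j + j.val) : ℂ) - (qInt q (ν i + i.val) : ℂ)) =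
      ∏ i : Fin n, ∏ j ∈ Finset.Ioi i, (x j - x i) from Finset.prod_congr rfl fun i _ =>
        Finset.prod_congr (by ext; simp) fun j _ => rfl, hdet, mul_right_comm]
  simp only [Cfsg.unipotentCharacterGL, Finset.sum_mul, Finset.mul_sum, hterm, hexp]
  refine Finset.sum_congr rfl fun κ _ => ?_
  rw [← Equiv.sum_comp κ (fun i : Fin n => ∑ t ∈ Finset.range i.val, t), ← Finset.prod_pow_eq_pow_sum,
    mul_assoc, mul_assoc, ← Finset.prod_mul_distrib]
  rw [Units.smul_def, zsmul_eq_mul, mul_left_comm (qFact q n : ℂ)]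
  congr 2
  refine Finset.prod_congr rfl fun i _ => ?_
  rw [qDesc_cast]
  simp [P, hx, Polynomial.eval_prod]

/-- The degree is positive. -/
theorem unipotent_degree_pos {F : Type*} [Field F] [Fintype F] {n : ℕ} (ν : Fin n → ℕ)
    (hmono : Monotone ν) (hsum : ∑ i, ν i = n) :
    ∃ r : ℝ, 0 < r ∧ Cfsg.unipotentCharacterGL n F ν 1 = (r : ℂ) := by
  set q := Fintype.card F
  have hq : 0 < q := Fintype.card_pos
  set A : ℝ := (q : ℝ) ^ (n * (n - 1) * (n - 2) / 6) * ∏ i : Fin n, (qFact q (ν i + i.val) : ℝ) with hA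
  set B : ℝ := (qFact q n : ℝ) * ∏ i : Fin n, ∏ j ∈ Finset.univ.filter (fun j : Fin n => i < j),
    ((qInt q (ν j + j.val) : ℝ) - (qInt q (ν i + i.val) : ℝ)) with hB
  have hfact : ∀ r, (0 : ℝ) < (qFact q r : ℝ) := fun r => by
    exact_mod_cast Finset.prod_pos fun j _ => qInt_pos (q := q) (Nat.succ_pos j)
  have hApos : 0 < A := by
    have h1 : (0 : ℝ) < q := by exact_mod_cast hq
    exact mul_pos (pow_pos h1 _) (Finset.prod_pos fun i _ => hfact _)
  have hBpos : 0 < B := by
    refine mul_pos (hfact n) (Finset.prod_pos fun i _ => Finset.prod_pos fun j hj => sub_pos.2 ?_)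
    have hij := (Finset.mem_filter.1 hj).2
    have := hmono hij.le
    have h2 := Fin.lt_def.1 hij
    exact_mod_cast qInt_strictMono hq (show ν i + i.val < ν j + j.val by omega)
  refine ⟨B / A, div_pos hBpos hApos, ?_⟩
  have h := unipotent_degree (F := F) ν hsum
  have hA' : (A : ℂ) ≠ 0 := by exact_mod_cast hApos.ne'
  rw [Complex.ofReal_div, eq_div_iff hA', hA, hB]
  push_cast
  rw [← mul_assoc]
  exact h

theorem isIrr_unipotent {F : Type*} [Field F] [Fintype F] {n : ℕ} (ν : Fin n → ℕ)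
    (hmono : Monotone ν) (hsum : ∑ i, ν i = n) :
    Cfsg.IsIrrCharacter (GL (Fin n) F) (Cfsg.unipotentCharacterGL n F ν) := by
  classical
  have hgen : Cfsg.IsGeneralizedCharacter (GL (Fin n) F) (Cfsg.unipotentCharacterGL n F ν) := by
    have e : Cfsg.unipotentCharacterGL n F ν = ∑ κ : Equiv.Perm (Fin n),
        (if ∀ i : Fin n, (κ i).val ≤ ν i + i.val then (Equiv.Perm.sign κ : ℤ) else 0) •
          Cfsg.fixedPointCharacter (Cfsg.parabolicGL n F fun i => ν i + i.val - (κ i).val) := by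
      funext g
      rw [Cfsg.unipotentCharacterGL, Finset.sum_apply]
      refine Finset.sum_congr rfl fun κ _ => ?_
      rw [Pi.smul_apply, zsmul_eq_mul]
      split_ifs <;> simp
    rw [e]
    exact Cfsg.Lib.Chars.IsGeneralizedCharacter.sum _ _ fun κ _ => Cfsg.Lib.Chars.IsGeneralizedCharacter.zsmul
      (Cfsg.Lib.Chars.IsCharacter.isGeneralized (Cfsg.Lib.Chars.isCharacter_permChar _)) _
  rcases Cfsg.Lib.Chars.isIrr_or_neg_of_norm_one hgen
      (by rw [classInner_unipotent hmono hmono hsum hsum, if_pos rfl]) with h | h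
  · exact h
  · exfalso
    obtain ⟨r, hr, e⟩ := unipotent_degree_pos (F := F) ν hmono hsum
    have h1 := Cfsg.Lib.Chars.IsCharacter.one_re_nonneg (Cfsg.Lib.Chars.isCharacter_of_irr h)
    rw [Pi.neg_apply, e, Complex.neg_re, Complex.ofReal_re] at h1
    linarith

end Cfsg.Lib.FlagCells
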