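import Mathlib

/-! The row-ordered expansion of a Hessenberg determinant over a ring. -/

set_option autoImplicit false

namespace Cfsg.Lib.FlagCells

variable {R : Type*} [Ring R]

/-- The entries: the first column is `A (r + i)`, the others `A (i + 1 - j)`. -/
def hEnt (A : ℕ → R) (r i j : ℕ) : R :=
  if j = 0 then A (r + i) else if j ≤ i + 1 then A (i + 1 - j) else 0

/-- The product of the entries in the order of the rows. -/
def hTerm (A : ℕ → R) (r k : ℕ) (κ : Equiv.Perm (Fin k)) : R :=
  (List.ofFn fun i : Fin k => hEnt A r i.val (κ i).val).prod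

/-- The row-ordered determinant. -/
def hDet (A : ℕ → R) (r k : ℕ) : R := ∑ κ : Equiv.Perm (Fin k), (Equiv.Perm.sign κ : ℤ) • hTerm A r k κ

theorem hDet_zero (A : ℕ → R) (r : ℕ) : hDet A r 0 = 1 := by simp [hDet, hTerm]

theorem hDet_one (A : ℕ → R) (r : ℕ) : hDet A r 1 = A r := by simp [hDet, hTerm, hEnt]

theorem hDet_succ {A : ℕ → R} (hA : A 0 = 1) (r k : ℕ) :
    hDet A r (k + 2) = A r * hDet A 1 (k + 1) - hDet A (r + 1) (k + 1) := by
  rw [hDet, ← Equiv.sum_comp (Equiv.Perm.decomposeFin (n := k + 1)).symm, Fintype.sum_prod_type,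
    Fin.sum_univ_succ, Fin.sum_univ_succ]
  rw [Finset.sum_eq_zero (s := (Finset.univ : Finset (Fin k))) fun p _ => Finset.sum_eq_zero fun e _ => ?_,
    add_zero, sub_eq_add_neg]
  · congr 1
    · rw [hDet, Finset.mul_sum]
      refine Finset.sum_congr rfl fun e _ => ?_
      rw [Equiv.Perm.decomposeFin.symm_sign, if_pos rfl, one_mul, mul_smul_comm, hTerm, hTerm,
        List.ofFn_succ, List.prod_cons, Equiv.Perm.decomposeFin_symm_apply_zero]
      refine congrArg _ ?_
      congr 1
      refine congrArg List.prod (congrArg List.ofFn (funext fun i => ?_))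
      rw [Equiv.Perm.decomposeFin_symm_apply_succ, Equiv.swap_self, Equiv.refl_apply]
      simp only [hEnt, Fin.val_succ, Nat.succ_ne_zero, if_false]
      split_ifs with h1 h2 h2 <;> first | rfl | (congr 1; omega) | omega
    · rw [hDet, ← Finset.sum_neg_distrib]
      refine Finset.sum_congr rfl fun e _ => ?_
      rw [Equiv.Perm.decomposeFin.symm_sign, if_neg (Fin.succ_ne_zero _), neg_one_mul, Units.val_neg,
        neg_smul, hTerm, hTerm, List.ofFn_succ, List.prod_cons, Equiv.Perm.decomposeFin_symm_apply_zero]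
      rw [show hEnt A r (0 : Fin (k + 1 + 1)).val (0 : Fin (k + 1)).succ.val = 1 by simp [hEnt, hA],
        one_mul]
      refine congrArg _ (congrArg _ (congrArg List.prod (congrArg List.ofFn (funext fun i => ?_))))
      rw [Equiv.Perm.decomposeFin_symm_apply_succ]
      rcases eq_or_ne (e i) 0 with h0 | h0
      · rw [h0, Equiv.swap_apply_right]
        simp only [hEnt, Fin.val_zero, Fin.val_succ, if_true]
        congr 1
        omega
      · rw [Equiv.swap_apply_of_ne_of_ne (Fin.succ_ne_zero _) (fun h => h0 (Fin.succ_injective _ h))]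
        have : (e i).val ≠ 0 := fun h => h0 (Fin.ext h)
        simp only [hEnt, Fin.val_succ, Nat.succ_ne_zero, if_false, this]
        split_ifs with h1 h2 h2 <;> first | rfl | (congr 1; omega) | omega
  · rw [hTerm, List.ofFn_succ, List.prod_cons, Equiv.Perm.decomposeFin_symm_apply_zero]
    rw [show hEnt A r (0 : Fin (k + 1 + 1)).val p.succ.succ.val = 0 by simp [hEnt], zero_mul, smul_zero]

theorem hDet_expand {A : ℕ → R} (hA : A 0 = 1) : ∀ (k r : ℕ),
    hDet A r (k + 1) = ∑ j ∈ Finset.range (k + 1), (-1 : ℤ) ^ j • (A (r + j) * hDet A 1 (k - j)) := by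
  intro k
  induction k with
  | zero => intro r; simp [hDet_one, hDet_zero]
  | succ k ih =>
    intro r
    rw [hDet_succ hA, ih (r + 1), Finset.sum_range_succ' _ (k + 1), pow_zero, one_smul, add_zero,
      Nat.sub_zero, sub_eq_neg_add, ← Finset.sum_neg_distrib]
    congr 1
    refine Finset.sum_congr rfl fun j _ => ?_
    rw [show r + (j + 1) = r + 1 + j by omega, show k + 1 - (j + 1) = k - j by omega, pow_succ,
      mul_neg_one, neg_smul]

/-- The signed determinant. -/
def hMu (A : ℕ → R) (k : ℕ) : R := (-1 : ℤ) ^ k • hDet A 1 k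

theorem hMu_zero (A : ℕ → R) : hMu A 0 = 1 := by simp [hMu, hDet_zero]

theorem hMu_succ {A : ℕ → R} (hA : A 0 = 1) (k : ℕ) :
    hMu A (k + 1) = -∑ j ∈ Finset.range (k + 1), A (1 + j) * hMu A (k - j) := by
  rw [hMu, hDet_expand hA, Finset.smul_sum, ← Finset.sum_neg_distrib]
  refine Finset.sum_congr rfl fun j hj => ?_
  rw [Finset.mem_range] at hj
  rw [hMu, mul_smul_comm, smul_smul, ← neg_smul]
  congr 1
  obtain ⟨l, rfl⟩ := Nat.exists_eq_add_of_le (show j ≤ k by omega)
  rw [Nat.add_sub_cancel_left, pow_succ, pow_add, mul_neg_one, neg_mul]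
  have : ((-1 : ℤ) ^ j) * (-1) ^ j = 1 := by rw [← mul_pow]; norm_num
  linear_combination (-(-1 : ℤ) ^ l) * this

end Cfsg.Lib.FlagCells
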