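import Cfsg.Agent.Known.SLFlag.InvMu

/-!
# The Moebius function of the invariant subspaces of a semisimple endomorphism

Splitting off an invariant atom gives the kernels of the irreducible polynomials and the value of the Moebius
function in terms of the factorization of the characteristic polynomial.
-/

set_option autoImplicit false

open Polynomial Module UniqueFactorizationMonoid

namespace Cfsg.Lib.FlagCells

variable {F V : Type*} [Field F] [AddCommGroup V] [Module F V] (T : Module.End F V)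

/-- The exponent. -/
noncomputable def mExp (M : Multiset F[X]) : ℕ :=
  haveI := Classical.decEq F[X]
  ∑ f ∈ M.toFinset, f.natDegree * (M.count f).choose 2

theorem mExp_cons [DecidableEq F[X]] (f : F[X]) (M : Multiset F[X]) :
    mExp (f ::ₘ M) = mExp M + f.natDegree * M.count f := by
  unfold mExp
  rw [Subsingleton.elim (Classical.decEq F[X]) ‹_›]
  rw [Multiset.toFinset_cons, ← Finset.add_sum_erase _ _ (Finset.mem_insert_self f M.toFinset),
    Finset.erase_insert_eq_erase, Multiset.count_cons_self, Nat.choose_succ_succ, Nat.choose_one_right,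
    Finset.sum_congr rfl (g := fun g => g.natDegree * (M.count g).choose 2)
      (fun g hg => by rw [Multiset.count_cons_of_ne (Finset.ne_of_mem_erase hg)])]
  by_cases hf : f ∈ M.toFinset
  · rw [← Finset.add_sum_erase _ (fun g : F[X] => g.natDegree * (M.count g).choose 2) hf]
    ring
  · rw [Finset.erase_eq_of_notMem hf, Multiset.count_eq_zero.2 fun h => hf (Multiset.mem_toFinset.2 h)]
    simp

theorem aeval_comm_apply (g : F[X]) (v : V) : aeval T g (T v) = T (aeval T g v) := by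
  have := congrArg (aeval T) (mul_comm g X)
  rw [map_mul, map_mul, aeval_X] at this
  exact LinearMap.congr_fun this v

theorem mapsTo_aeval (U : Inv T) (g : F[X]) {v : V} (hv : v ∈ U.1) : aeval T g v ∈ U.1 := by
  induction g using Polynomial.induction_on' with
  | add p r hp hr => rw [map_add, LinearMap.add_apply]; exact add_mem hp hr
  | monomial i c =>
    rw [aeval_monomial, Module.End.mul_apply, Module.algebraMap_end_apply]
    refine U.1.smul_mem _ ?_
    induction i with
    | zero => simpa using hv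
    | succ i ih => rw [pow_succ', Module.End.mul_apply]; exact U.2 ih

/-- The restriction. -/
noncomputable abbrev res (U : Inv T) : Module.End F U.1 := T.restrict fun _ hv => U.2 hv

theorem aeval_res (U : Inv T) (g : F[X]) (v : U.1) : (aeval (res T U) g v : V) = aeval T g (v : V) := by
  induction g using Polynomial.induction_on' with
  | add p r hp hr => simp [hp, hr]
  | monomial i c =>
    rw [aeval_monomial, aeval_monomial, Module.End.mul_apply, Module.End.mul_apply,
      Module.algebraMap_end_apply, Module.algebraMap_end_apply, Submodule.coe_smul]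
    congr 1
    induction i with
    | zero => simp
    | succ i ih => rw [pow_succ', pow_succ', Module.End.mul_apply, Module.End.mul_apply, ← ih]; rfl

/-- The kernel of a polynomial, as an invariant subspace. -/
noncomputable def kerP (g : F[X]) : Inv T := ⟨LinearMap.ker (aeval T g), fun v hv => by
  rw [Submodule.mem_comap, LinearMap.mem_ker, aeval_comm_apply, LinearMap.mem_ker.1 hv, map_zero]⟩

/-- The invariant subspace generated by a vector. -/
noncomputable def cyc (v : V) : Inv T :=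
  ⟨LinearMap.range ((LinearMap.applyₗ v).comp (aeval (R := F) T).toLinearMap), by
    rintro _ ⟨g, rfl⟩
    exact ⟨X * g, by simp [Module.End.mul_apply]⟩⟩

theorem mem_cyc {v w : V} : w ∈ (cyc T v).1 ↔ ∃ g : F[X], aeval T g v = w := by
  simp [cyc]

theorem self_mem_cyc (v : V) : v ∈ (cyc T v).1 := (mem_cyc T).2 ⟨1, by simp⟩

theorem cyc_le {v : V} {U : Inv T} (hv : v ∈ U.1) : (cyc T v).1 ≤ U.1 := by
  intro w hw
  obtain ⟨g, rfl⟩ := (mem_cyc T).1 hw
  exact mapsTo_aeval T U g hv

variable [Finite F] [FiniteDimensional F V]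

/-- An atom: its endomorphism has an irreducible characteristic polynomial annihilating exactly. -/
theorem atom_props {s : Inv T} {v0 : V} (hv0 : v0 ∈ s.1) (hne : v0 ≠ 0)
    (hat : ∀ U : Inv T, U.1 ≤ s.1 → U.1 ≠ ⊥ → U.1 = s.1) :
    ∃ f : F[X], f.Monic ∧ Irreducible f ∧ (res T s).charpoly = f ∧ finrank F s.1 = f.natDegree ∧
      (∀ v ∈ s.1, aeval T f v = 0) ∧
      ∀ (g : F[X]) (v : V), v ∈ s.1 → v ≠ 0 → (aeval T g v = 0 ↔ f ∣ g) := by
  classical
  set f := minpoly F (res T s) with hf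
  have hint : IsIntegral F (res T s) := Algebra.IsIntegral.isIntegral _
  have hzero : ∀ v ∈ s.1, aeval T f v = 0 := fun v hv => by
    rw [← aeval_res T s f ⟨v, hv⟩, hf, minpoly.aeval]; rfl
  have hiff : ∀ (g : F[X]) (v : V), v ∈ s.1 → v ≠ 0 → (aeval T g v = 0 ↔ f ∣ g) := by
    refine fun g v hv hv' => ⟨fun h => ?_, ?_⟩
    · have hK : (kerP T g).1 ⊓ s.1 = s.1 := hat ⟨_, inv_inf T (kerP T g) s⟩ inf_le_right
        fun hbot => hv' ((Submodule.eq_bot_iff _).1 hbot v ⟨LinearMap.mem_ker.2 h, hv⟩)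
      refine minpoly.dvd F _ (LinearMap.ext fun w => Subtype.ext ?_)
      rw [aeval_res]
      exact LinearMap.mem_ker.1 (Submodule.mem_inf.1 (hK.symm ▸ w.2 : (w : V) ∈ (kerP T g).1 ⊓ s.1)).1
    · rintro ⟨r, rfl⟩
      rw [mul_comm, map_mul, Module.End.mul_apply, hzero v hv, map_zero]
  have hmon : f.Monic := minpoly.monic hint
  have hunit : ¬IsUnit f := fun hu => hne (by simpa using (hiff 1 v0 hv0 hne).2 (hu.dvd))
  have hirr : Irreducible f := by
    refine ⟨hunit, fun a b hab => ?_⟩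
    have h0 : aeval T a (aeval T b v0) = 0 := by
      rw [← Module.End.mul_apply, ← map_mul, ← hab]
      exact hzero v0 hv0
    by_cases hb : aeval T b v0 = 0
    · left
      obtain ⟨c, hc⟩ := (hiff b v0 hv0 hne).1 hb
      have : f = f * (a * c) := by
        conv_lhs => rw [hab, hc]
        ring
      exact IsUnit.of_mul_eq_one c (mul_left_cancel₀ hmon.ne_zero (by rw [mul_one]; exact this.symm))
    · right
      obtain ⟨c, hc⟩ := (hiff a _ (mapsTo_aeval T s b hv0) hb).1 h0
      have : f = f * (c * b) := by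
        conv_lhs => rw [hab, hc]
        ring
      exact IsUnit.of_mul_eq_one c
        (mul_left_cancel₀ hmon.ne_zero (by rw [mul_one, mul_comm b c]; exact this.symm))
  have hdim : finrank F s.1 ≤ f.natDegree := by
    rw [← (Polynomial.degreeLTEquiv F f.natDegree).finrank_eq.trans (Module.finrank_fin_fun F)]
    have hcyc : (cyc T v0).1 = s.1 := hat _ (cyc_le T hv0) fun hbot =>
      hne ((Submodule.eq_bot_iff _).1 hbot v0 (self_mem_cyc T v0))
    have hle : s.1 ≤ (degreeLT F f.natDegree).map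
        ((LinearMap.applyₗ v0).comp (aeval (R := F) T).toLinearMap) := by
      intro w hw
      obtain ⟨g, rfl⟩ := (mem_cyc T).1 (hcyc.symm ▸ hw)
      refine ⟨g %ₘ f, ?_, ?_⟩
      · rw [SetLike.mem_coe, mem_degreeLT, ← degree_eq_natDegree hmon.ne_zero]
        exact degree_modByMonic_lt _ hmon
      · conv_rhs => rw [← modByMonic_add_div g f, map_add, LinearMap.add_apply, mul_comm, map_mul,
          Module.End.mul_apply, hzero v0 hv0, map_zero, add_zero]
        simp
    exact (Submodule.finrank_mono hle).trans (Submodule.finrank_map_le _ _)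
  have hchi : (res T s).charpoly = f := by
    refine Polynomial.eq_of_monic_of_dvd_of_natDegree_le hmon (LinearMap.charpoly_monic _)
      (LinearMap.minpoly_dvd_charpoly _) ?_
    rwa [LinearMap.charpoly_natDegree]
  refine ⟨f, hmon, hirr, hchi, ?_, hzero, hiff⟩
  rw [← hchi, LinearMap.charpoly_natDegree]

omit [Finite F] in
theorem charpoly_split {a s w : Inv T} (h1 : a.1 ⊓ s.1 = ⊥) (h2 : a.1 ⊔ s.1 = w.1) :
    (res T w).charpoly = (res T a).charpoly * (res T s).charpoly := by
  let ia : a.1 →ₗ[F] w.1 := Submodule.inclusion (h2 ▸ le_sup_left)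
  let is : s.1 →ₗ[F] w.1 := Submodule.inclusion (h2 ▸ le_sup_right)
  let j : (a.1 × s.1) →ₗ[F] w.1 := ia.coprod is
  have hj : Function.Bijective j := by
    constructor
    · rw [← LinearMap.ker_eq_bot, Submodule.eq_bot_iff]
      rintro ⟨x, y⟩ hxy
      have hxy' : (x : V) + y = 0 := congrArg Subtype.val (LinearMap.mem_ker.1 hxy)
      have hy : (y : V) ∈ a.1 := by
        rw [eq_neg_of_add_eq_zero_right hxy']
        exact neg_mem x.2
      have hy0 : (y : V) = 0 := (Submodule.eq_bot_iff _).1 h1 _ ⟨hy, y.2⟩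
      rw [hy0, add_zero] at hxy'
      exact Prod.ext (Subtype.ext hxy') (Subtype.ext hy0)
    · intro v
      obtain ⟨x, hx, y, hy, hxy⟩ := Submodule.mem_sup.1 (h2.symm ▸ v.2 : (v : V) ∈ a.1 ⊔ s.1)
      exact ⟨(⟨x, hx⟩, ⟨y, hy⟩), Subtype.ext hxy⟩
  let e := LinearEquiv.ofBijective j hj
  have hc : e.conj ((res T a).prodMap (res T s)) = res T w := by
    refine LinearMap.ext fun v => ?_
    obtain ⟨z, rfl⟩ := e.surjective v
    rw [LinearEquiv.conj_apply, LinearMap.comp_apply, LinearMap.comp_apply, LinearEquiv.coe_coe,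
      LinearEquiv.coe_coe, LinearEquiv.symm_apply_apply]
    refine Subtype.ext ?_
    show T (z.1 : V) + T (z.2 : V) = T ((z.1 : V) + z.2)
    rw [map_add]
  rw [← hc, LinearEquiv.charpoly_conj, LinearMap.charpoly_prodMap]

omit [Finite F] in
theorem finrank_kerP_split {a s w : Inv T} (h1 : a.1 ⊓ s.1 = ⊥) (h2 : a.1 ⊔ s.1 = w.1) (g : F[X]) :
    finrank F ↥((kerP T g).1 ⊓ w.1) =
      finrank F ↥((kerP T g).1 ⊓ a.1) + finrank F ↥((kerP T g).1 ⊓ s.1) := by
  have he : (kerP T g).1 ⊓ w.1 = ((kerP T g).1 ⊓ a.1) ⊔ ((kerP T g).1 ⊓ s.1) := by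
    refine le_antisymm (fun v hv => ?_) (sup_le (inf_le_inf_left _ (h2 ▸ le_sup_left))
      (inf_le_inf_left _ (h2 ▸ le_sup_right)))
    obtain ⟨x, hx, y, hy, rfl⟩ := Submodule.mem_sup.1 (h2.symm ▸ hv.2)
    have hv1 : aeval T g x + aeval T g y = 0 := by rw [← map_add]; exact LinearMap.mem_ker.1 hv.1
    have hx' : aeval T g x ∈ s.1 := by
      rw [eq_neg_of_add_eq_zero_left hv1]
      exact neg_mem (mapsTo_aeval T s g hy)
    have hx0 : aeval T g x = 0 := (Submodule.eq_bot_iff _).1 h1 _ ⟨mapsTo_aeval T a g hx, hx'⟩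
    rw [hx0, zero_add] at hv1
    exact Submodule.add_mem_sup ⟨LinearMap.mem_ker.2 hx0, hx⟩ ⟨LinearMap.mem_ker.2 hv1, hy⟩
  have hd : ((kerP T g).1 ⊓ a.1) ⊓ ((kerP T g).1 ⊓ s.1) = ⊥ := by
    rw [← le_bot_iff, ← h1]
    exact inf_le_inf inf_le_right inf_le_right
  rw [he, ← Submodule.finrank_sup_add_finrank_inf_eq, hd, finrank_bot, add_zero]

open scoped Classical in
theorem card_complements {a s w : Inv T} (h1 : a.1 ⊓ s.1 = ⊥) (h2 : a.1 ⊔ s.1 = w.1)
    (hmax : ∀ U : Inv T, U ≤ w → ¬U.1 ≤ a.1 → U.1 ⊔ a.1 = w.1)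
    {f : F[X]} {v0 : V} (hv0 : v0 ∈ s.1) (hne : v0 ≠ 0) (hzero : aeval T f v0 = 0)
    (hiff : ∀ g : F[X], aeval T g v0 = 0 → f ∣ g) :
    (Finset.univ.filter fun U : Inv T => U ≤ w ∧ U.1 ⊓ a.1 = ⊥ ∧ U.1 ≠ ⊥).card =
      Nat.card ↥((kerP T f).1 ⊓ a.1) := by
  have haw : a.1 ≤ w.1 := h2 ▸ le_sup_left
  have hsw : s.1 ≤ w.1 := h2 ▸ le_sup_right
  have hv0a : v0 ∉ a.1 := fun h => hne ((Submodule.eq_bot_iff _).1 h1 v0 ⟨h, hv0⟩)
  have hinf : ∀ z : ↥((kerP T f).1 ⊓ a.1), (cyc T (v0 + z)).1 ⊓ a.1 = ⊥ := by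
    rintro ⟨z, hz, hza⟩
    rw [Submodule.eq_bot_iff]
    rintro v ⟨hv, hva⟩
    obtain ⟨g, rfl⟩ := (mem_cyc T).1 hv
    rw [map_add] at hva ⊢
    have hg0 : aeval T g v0 = 0 := (Submodule.eq_bot_iff _).1 h1 _
      ⟨(add_mem_cancel_right (mapsTo_aeval T a g hza)).1 hva, mapsTo_aeval T s g hv0⟩
    obtain ⟨r, rfl⟩ := hiff g hg0
    rw [hg0, zero_add, mul_comm f r, map_mul, Module.End.mul_apply, LinearMap.mem_ker.1 hz, map_zero]
  have hnot : ∀ z : ↥((kerP T f).1 ⊓ a.1), ¬(cyc T (v0 + z)).1 ≤ a.1 := fun z h =>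
    hv0a ((add_mem_cancel_right z.2.2).1 (h (self_mem_cyc T _)))
  have hmem : ∀ z : ↥((kerP T f).1 ⊓ a.1), cyc T (v0 + z) ∈
      Finset.univ.filter fun U : Inv T => U ≤ w ∧ U.1 ⊓ a.1 = ⊥ ∧ U.1 ≠ ⊥ := fun z =>
    Finset.mem_filter.2 ⟨Finset.mem_univ _, cyc_le T (add_mem (hsw hv0) (haw z.2.2)), hinf z,
      fun h => hnot z (h ▸ bot_le)⟩
  rw [← Nat.card_eq_finsetCard]
  refine (Nat.card_eq_of_bijective (fun z => ⟨cyc T (v0 + z), hmem z⟩) ⟨fun z z' h => ?_, fun U => ?_⟩).symm
  · have hc : cyc T (v0 + z) = cyc T (v0 + z') := congrArg Subtype.val h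
    have h4 : (z : V) - z' ∈ (cyc T (v0 + z)).1 ⊓ a.1 := by
      refine ⟨?_, sub_mem z.2.2 z'.2.2⟩
      have h5 : v0 + (z' : V) ∈ (cyc T (v0 + z)).1 := hc ▸ self_mem_cyc T _
      rw [← add_sub_add_left_eq_sub (z : V) z' v0]
      exact sub_mem (self_mem_cyc T _) h5
    rw [hinf z, Submodule.mem_bot, sub_eq_zero] at h4
    exact Subtype.ext h4
  · obtain ⟨U, hU⟩ := U
    obtain ⟨-, hUw, hUa, hUb⟩ := Finset.mem_filter.1 hU
    have hsup := hmax U hUw fun h => hUb (by rw [← hUa, inf_eq_left.2 h])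
    obtain ⟨u, hu, z, hz, huz⟩ := Submodule.mem_sup.1 (hsup.symm ▸ hsw hv0)
    have hu' : v0 + -z = u := by rw [← huz]; abel
    have hK : -z ∈ (kerP T f).1 ⊓ a.1 := by
      refine ⟨?_, neg_mem hz⟩
      show aeval T f (-z) = 0
      have h3 : aeval T f u ∈ U.1 ⊓ a.1 := by
        refine ⟨mapsTo_aeval T U f hu, ?_⟩
        rw [← hu', map_add, hzero, zero_add]
        exact mapsTo_aeval T a f (neg_mem hz)
      rw [hUa, Submodule.mem_bot, ← hu', map_add, hzero, zero_add] at h3
      exact h3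
    refine ⟨⟨-z, hK⟩, Subtype.ext (Subtype.ext ?_)⟩
    have hle : (cyc T (v0 + -z)).1 ≤ U.1 := cyc_le T (hu' ▸ hu)
    have hle' : (cyc T (v0 + -z)).1 ≤ w.1 := hle.trans hUw
    refine le_antisymm hle ?_
    calc U.1 = U.1 ⊓ w.1 := (inf_eq_left.2 hUw).symm
      _ = U.1 ⊓ ((cyc T (v0 + -z)).1 ⊔ a.1) := by rw [hmax (cyc T (v0 + -z)) hle' (hnot ⟨-z, hK⟩)]
      _ = (cyc T (v0 + -z)).1 ⊔ (U.1 ⊓ a.1) := by
          rw [inf_comm, sup_inf_assoc_of_le _ hle, inf_comm]
      _ ≤ (cyc T (v0 + -z)).1 := by rw [hUa, sup_bot_eq]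

/-- Over the invariant subspaces of a semisimple endomorphism the Moebius function is a signed power of the
cardinality of the field. -/
theorem mu_eval [DecidableEq F] (hT : T.IsSemisimple) (w : Inv T) :
    (∀ g : F[X], g.Monic → Irreducible g →
      finrank F ↥((kerP T g).1 ⊓ w.1) = g.natDegree * (normalizedFactors (res T w).charpoly).count g) ∧
    mu T (ibot T) w = (-1) ^ (normalizedFactors (res T w).charpoly).card *
      (Nat.card F : ℤ) ^ mExp (normalizedFactors (res T w).charpoly) := by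
  classical
  induction hd : finrank F w.1 using Nat.strong_induction_on generalizing w with
  | _ m ih =>
  rcases eq_or_ne w.1 ⊥ with hw | hw
  · have hchi : (res T w).charpoly = 1 := by
      refine (Polynomial.Monic.natDegree_eq_zero (LinearMap.charpoly_monic _)).1 ?_
      rw [LinearMap.charpoly_natDegree, hw, finrank_bot]
    refine ⟨fun g _ _ => ?_, ?_⟩
    · rw [hchi, normalizedFactors_one, Multiset.count_zero, mul_zero, hw, inf_bot_eq, finrank_bot]
    · rw [hchi, normalizedFactors_one, show w = ibot T from Subtype.ext hw, mu_self]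
      simp [mExp]
  · have hne : (Finset.univ.filter fun U : Inv T => U.1 < w.1).Nonempty :=
      ⟨ibot T, Finset.mem_filter.2 ⟨Finset.mem_univ _, bot_lt_iff_ne_bot.2 hw⟩⟩
    obtain ⟨a, ha, hmax'⟩ := Finset.exists_max_image _ (fun U : Inv T => finrank F U.1) hne
    replace ha : a.1 < w.1 := (Finset.mem_filter.1 ha).2
    have hmax : ∀ U : Inv T, U ≤ w → ¬U.1 ≤ a.1 → U.1 ⊔ a.1 = w.1 := by
      intro U hU hUa
      refine (sup_le hU ha.le).eq_or_lt.resolve_right fun hc => ?_
      have h1 := hmax' ⟨U.1 ⊔ a.1, inv_sup T U a⟩ (Finset.mem_filter.2 ⟨Finset.mem_univ _, hc⟩)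
      have h2 := Submodule.finrank_lt_finrank_of_lt (right_lt_sup.2 hUa : a.1 < U.1 ⊔ a.1)
      simp only at h1
      omega
    obtain ⟨q, hq, hqc⟩ := Module.End.isSemisimple_iff.1 hT a.1 a.2
    let s : Inv T := ⟨w.1 ⊓ q, inv_inf T w ⟨q, hq⟩⟩
    have h1 : a.1 ⊓ s.1 = ⊥ := by
      rw [← le_bot_iff]
      exact (inf_le_inf_left _ inf_le_right).trans hqc.inf_eq_bot.le
    have h2 : a.1 ⊔ s.1 = w.1 := by
      show a.1 ⊔ (w.1 ⊓ q) = w.1
      rw [inf_comm, ← sup_inf_assoc_of_le q ha.le, hqc.sup_eq_top, top_inf_eq]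
    have hs : s.1 ≠ ⊥ := fun h => ha.ne (by rw [← h2, h, sup_bot_eq])
    obtain ⟨v0, hv0, hv0'⟩ := Submodule.exists_mem_ne_zero_of_ne_bot hs
    have hat : ∀ U : Inv T, U.1 ≤ s.1 → U.1 ≠ ⊥ → U.1 = s.1 := by
      intro U hU hUb
      have hsw : s.1 ≤ w.1 := h2 ▸ le_sup_right
      have hUa : ¬U.1 ≤ a.1 := fun h => hUb (le_bot_iff.1 (h1 ▸ le_inf h hU))
      refine le_antisymm hU ?_
      calc s.1 = s.1 ⊓ w.1 := (inf_eq_left.2 hsw).symm
        _ = (U.1 ⊔ a.1) ⊓ s.1 := by rw [hmax U (hU.trans hsw) hUa, inf_comm]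
        _ = U.1 ⊔ (a.1 ⊓ s.1) := sup_inf_assoc_of_le _ hU
        _ ≤ U.1 := by rw [h1, sup_bot_eq]
    obtain ⟨f, hmon, hirr, hchi, hdim, hzero, hiff⟩ := atom_props T hv0 hv0' hat
    obtain ⟨ihk, ihm⟩ := ih _ (hd ▸ Submodule.finrank_lt_finrank_of_lt ha) a rfl
    have hnf : normalizedFactors (res T w).charpoly = f ::ₘ normalizedFactors (res T a).charpoly := by
      rw [charpoly_split T h1 h2, hchi, normalizedFactors_mul (LinearMap.charpoly_monic _).ne_zero
        hmon.ne_zero, normalizedFactors_irreducible hirr, hmon.normalize_eq_self, add_comm,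
        Multiset.singleton_add]
    refine ⟨fun g hg hgi => ?_, ?_⟩
    · rw [finrank_kerP_split T h1 h2 g, ihk g hg hgi, hnf, Multiset.count_cons, mul_add]
      congr 1
      by_cases hgf : g = f
      · subst hgf
        rw [if_pos rfl, mul_one, ← hdim, inf_eq_right.2]
        exact fun v hv => LinearMap.mem_ker.2 (hzero v hv)
      · rw [if_neg hgf, mul_zero, Submodule.finrank_eq_zero, Submodule.eq_bot_iff]
        rintro v ⟨hv, hv'⟩
        by_contra hv''
        exact hgf (eq_of_monic_of_associated hg hmon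
          ((hirr.associated_of_dvd hgi ((hiff g v hv' hv'').1 (LinearMap.mem_ker.1 hv))).symm))
    · have key := weisner T (show a < w from ha)
      rw [← Finset.add_sum_erase _ _ (Finset.mem_filter.2 ⟨Finset.mem_univ (ibot T),
        (bot_le : (ibot T).1 ≤ w.1), (bot_inf_eq a.1)⟩)] at key
      rw [Finset.sum_congr rfl (g := fun _ => mu T (ibot T) a) ?_, Finset.sum_const, nsmul_eq_mul] at key
      swap
      · intro U hU
        simp only [Finset.mem_erase, Finset.mem_filter, Finset.mem_univ, true_and] at hU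
        refine mu_translate T hU.2.2 (hmax U hU.2.1 fun h => hU.1 (Subtype.ext ?_))
        show U.1 = ⊥
        rw [← hU.2.2, inf_eq_left.2 h]
      have hcard := card_complements T h1 h2 hmax hv0 hv0' (hzero v0 hv0)
        (fun g hg => (hiff g v0 hv0 hv0').1 hg)
      rw [show ((Finset.univ.filter fun U : Inv T => U ≤ w ∧ U.1 ⊓ a.1 = ⊥).erase (ibot T)) =
          Finset.univ.filter (fun U : Inv T => U ≤ w ∧ U.1 ⊓ a.1 = ⊥ ∧ U.1 ≠ ⊥) by
        ext U
        simp only [Finset.mem_erase, Finset.mem_filter, Finset.mem_univ, true_and, ne_eq, Subtype.ext_iff]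
        tauto, hcard, Module.natCard_eq_pow_finrank (K := F), ihk f hmon hirr] at key
      rw [hnf, Multiset.card_cons, mExp_cons, eq_neg_of_add_eq_zero_left key, ihm, pow_succ, pow_add]
      push_cast
      ring

end Cfsg.Lib.FlagCells
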