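import Cfsg.Agent.Known.SLFlagCells

/-!
# Pairs of flags and tables with prescribed margins

The inner product of two flag permutation characters of `GL n F` is the number of tables of natural
numbers with the two compositions as row and column sums.
-/

set_option autoImplicit false

namespace Cfsg.Lib.FlagCells

variable {n : ℕ}

theorem compLabel_le_iff {μ : Fin n → ℕ} (i t : Fin n) :
    Cfsg.compLabel μ i ≤ t.val ↔ i.val < ∑ k ∈ Finset.Iic t, μ k := by
  have hS : ∀ a b : Fin n, a ≤ b → ∑ k ∈ Finset.Iic a, μ k ≤ ∑ k ∈ Finset.Iic b, μ k := fun a b h =>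
    Finset.sum_le_sum_of_subset (Finset.Iic_subset_Iic.2 h)
  have hI : ∀ j : Fin n, Finset.univ.filter (fun k : Fin n => k ≤ j) = Finset.Iic j := fun j => by
    ext; simp
  simp only [Cfsg.compLabel, hI]
  constructor
  · intro h
    by_contra hc
    rw [not_lt] at hc
    have : Finset.Iic t ⊆ Finset.univ.filter (fun j : Fin n => ∑ k ∈ Finset.Iic j, μ k ≤ i.val) :=
      fun j hj => by
        simp only [Finset.mem_filter, Finset.mem_univ, true_and]
        exact (hS j t (Finset.mem_Iic.1 hj)).trans hc
    have h' := Finset.card_le_card this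
    rw [Fin.card_Iic] at h'
    omega
  · intro h
    have : Finset.univ.filter (fun j : Fin n => ∑ k ∈ Finset.Iic j, μ k ≤ i.val) ⊆ Finset.Iio t :=
      fun j hj => by
        simp only [Finset.mem_filter, Finset.mem_univ, true_and] at hj
        rw [Finset.mem_Iio]
        by_contra hc
        exact absurd ((hS t j (not_lt.1 hc)).trans hj) (by omega)
    have h' := Finset.card_le_card this
    rwa [Fin.card_Iio] at h'

theorem compLabel_lt {μ : Fin n → ℕ} (hμ : ∑ i, μ i = n) (i : Fin n) : Cfsg.compLabel μ i < n := by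
  have hn : 0 < n := i.pos
  have h := (compLabel_le_iff i ⟨n - 1, by omega⟩ (μ := μ)).2 ?_
  · change _ ≤ n - 1 at h
    omega
  · rw [show (Finset.Iic (⟨n - 1, by omega⟩ : Fin n)) = Finset.univ by
      ext k; simp [Fin.le_def]; omega, hμ]
    exact i.isLt

/-- The block of a position. -/
def lab {μ : Fin n → ℕ} (hμ : ∑ i, μ i = n) (i : Fin n) : Fin n :=
  ⟨Cfsg.compLabel μ i, compLabel_lt hμ i⟩

theorem lab_eq_iff {μ : Fin n → ℕ} (hμ : ∑ i, μ i = n) (i t : Fin n) :
    lab hμ i = t ↔ Cfsg.compLabel μ i = t.val := Fin.ext_iff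

theorem card_block {μ : Fin n → ℕ} (hμ : ∑ i, μ i = n) (t : Fin n) :
    (Finset.univ.filter fun i => lab hμ i = t).card = μ t := by
  induction hk : t.val using Nat.strong_induction_on generalizing t with
  | _ k ih =>
    have h1 : (Finset.univ.filter (fun i => lab hμ i ≤ t)).card = ∑ k ∈ Finset.Iic t, μ k := by
      rw [show Finset.univ.filter (fun i => lab hμ i ≤ t) =
          Finset.univ.filter (fun i : Fin n => i.val < ∑ k ∈ Finset.Iic t, μ k) by
        ext i
        simp only [Finset.mem_filter, Finset.mem_univ, true_and]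
        exact compLabel_le_iff i t]
      rw [Fin.card_filter_val_lt, min_eq_right]
      exact (Finset.sum_le_sum_of_subset (Finset.subset_univ _)).trans_eq hμ
    rw [Finset.card_eq_sum_card_fiberwise (f := lab hμ) (t := Finset.Iic t)
      (fun i hi => Finset.mem_Iic.2 (Finset.mem_filter.1 hi).2)] at h1
    have h2 : ∀ u ∈ Finset.Iic t, ((Finset.univ.filter (fun i => lab hμ i ≤ t)).filter
        (fun i => lab hμ i = u)).card = (Finset.univ.filter (fun i => lab hμ i = u)).card := by
      intro u hu
      congr 1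
      ext i
      simp only [Finset.mem_filter, Finset.mem_univ, true_and, and_iff_right_iff_imp]
      intro h; rw [h]; exact Finset.mem_Iic.1 hu
    rw [Finset.sum_congr rfl h2, ← Finset.Iio_insert, Finset.sum_insert (by simp),
      Finset.sum_insert (by simp),
      Finset.sum_congr rfl (fun u hu => ih u.val (hk ▸ Fin.lt_def.1 (Finset.mem_Iio.1 hu)) u rfl)] at h1
    exact Nat.add_right_cancel h1

/-- The tables with given margins. -/
def Table (a b : Fin n → ℕ) : Type :=
  {M : Fin n × Fin n → ℕ // (∀ i, ∑ j, M (i, j) = a i) ∧ ∀ j, ∑ i, M (i, j) = b j}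

variable {a b : Fin n → ℕ} (ha : ∑ i, a i = n) (hb : ∑ i, b i = n)

/-- The table of a permutation. -/
def tableOf (σ : Equiv.Perm (Fin n)) : Table a b :=
  ⟨fun p => (Finset.univ.filter fun j => (lab ha (σ j), lab hb j) = p).card, fun i => by
    rw [← card_block ha i]
    simp only [Finset.card_filter, Prod.mk.injEq]
    rw [Finset.sum_comm]
    refine Fintype.sum_equiv σ _ _ fun j => ?_
    rw [Finset.sum_eq_single (lab hb j)]
    · simp
    · intro k _ hk; rw [if_neg]; exact fun h => hk h.2.symm
    · simp, fun k => by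
    rw [← card_block hb k]
    simp only [Finset.card_filter, Prod.mk.injEq]
    rw [Finset.sum_comm]
    refine Finset.sum_congr rfl fun j _ => ?_
    rw [Finset.sum_eq_single (lab ha (σ j))]
    · simp
    · intro i _ hi; rw [if_neg]; exact fun h => hi h.1.symm
    · simp⟩

theorem tableOf_surjective : Function.Surjective (tableOf ha hb) := by
  classical
  rintro ⟨M, hrow, hcol⟩
  let α := Σ p : Fin n × Fin n, Fin (M p)
  have hfst : ∀ i, Fintype.card {x : α // x.1.1 = i} = a i := by
    intro i
    rw [← hrow i, Fintype.card_congr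
      (show {x : α // x.1.1 = i} ≃ Σ j : Fin n, Fin (M (i, j)) from
        { toFun := fun x => ⟨x.1.1.2, Fin.cast (congrArg M (Prod.ext x.2 rfl)) x.1.2⟩
          invFun := fun y => ⟨⟨(i, y.1), y.2⟩, rfl⟩
          left_inv := by rintro ⟨⟨⟨i', j⟩, z⟩, h⟩; dsimp only at h; subst h; rfl
          right_inv := fun y => rfl }), Fintype.card_sigma]
    simp
  have hsnd : ∀ j, Fintype.card {x : α // x.1.2 = j} = b j := by
    intro j
    rw [← hcol j, Fintype.card_congr
      (show {x : α // x.1.2 = j} ≃ Σ i : Fin n, Fin (M (i, j)) from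
        { toFun := fun x => ⟨x.1.1.1, Fin.cast (congrArg M ((Prod.ext rfl x.2 : x.1.1 = (x.1.1.1, j)))) x.1.2⟩
          invFun := fun y => ⟨⟨(y.1, j), y.2⟩, rfl⟩
          left_inv := by rintro ⟨⟨⟨i, j'⟩, z⟩, h⟩; dsimp only at h; subst h; rfl
          right_inv := fun y => rfl }), Fintype.card_sigma]
    simp
  let e1 : α ≃ Fin n := Equiv.ofFiberEquiv (f := fun x : α => x.1.1) (g := lab ha) fun i =>
    Fintype.equivOfCardEq (by rw [hfst, Fintype.card_subtype, card_block])
  let e2 : α ≃ Fin n := Equiv.ofFiberEquiv (f := fun x : α => x.1.2) (g := lab hb) fun i =>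
    Fintype.equivOfCardEq (by rw [hsnd, Fintype.card_subtype, card_block])
  refine ⟨e2.symm.trans e1, Subtype.ext (funext fun p => ?_)⟩
  have h1 : ∀ x, lab ha (e1 x) = x.1.1 := Equiv.ofFiberEquiv_map (f := fun x : α => x.1.1) _
  have h2 : ∀ x, lab hb (e2 x) = x.1.2 := Equiv.ofFiberEquiv_map (f := fun x : α => x.1.2) _
  show (Finset.univ.filter fun j => (lab ha (e1 (e2.symm j)), lab hb j) = p).card = M p
  rw [← Fintype.card_fin (M p), ← Fintype.card_subtype]
  refine Fintype.card_congr ?_
  refine (e2.subtypeEquiv (p := fun x : α => x.1 = p) fun x => ?_).symm.trans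
    { toFun := fun x => Fin.cast (by rw [x.2]) x.1.2
      invFun := fun z => ⟨⟨p, z⟩, rfl⟩
      left_inv := by rintro ⟨⟨q, z⟩, h⟩; dsimp only at h; subst h; rfl
      right_inv := fun z => rfl }
  rw [e2.symm_apply_apply, h1, h2]

theorem corner_congr {σ τ : Equiv.Perm (Fin n)} (h : tableOf ha hb σ = tableOf ha hb τ) (s t : ℕ) :
    corner (Cfsg.compLabel a) (Cfsg.compLabel b) σ s t =
      corner (Cfsg.compLabel a) (Cfsg.compLabel b) τ s t := by
  have key : ∀ π : Equiv.Perm (Fin n), corner (Cfsg.compLabel a) (Cfsg.compLabel b) π s t =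
      ∑ p ∈ Finset.univ.filter (fun p : Fin n × Fin n => s ≤ p.1.val ∧ p.2.val < t),
        (tableOf ha hb π).1 p := by
    intro π
    rw [corner, Finset.card_eq_sum_card_fiberwise (f := fun j => (lab ha (π j), lab hb j))
      (t := Finset.univ.filter fun p : Fin n × Fin n => s ≤ p.1.val ∧ p.2.val < t) (fun j hj => ?_)]
    · refine Finset.sum_congr rfl fun p hp => ?_
      simp only [tableOf]
      congr 1
      ext j
      simp only [Finset.mem_filter, Finset.mem_univ, true_and, and_iff_right_iff_imp]
      rintro rfl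
      exact (Finset.mem_filter.1 hp).2
    · simp only [Finset.coe_filter, Finset.mem_univ, true_and, Set.mem_ofPred_eq] at hj ⊢
      exact hj
  rw [key, key, h]

theorem tableOf_eq_iff (σ τ : Equiv.Perm (Fin n)) :
    tableOf ha hb σ = tableOf ha hb τ ↔ Rel (Cfsg.youngSubgroup a) (Cfsg.youngSubgroup b) σ τ := by
  refine ⟨fun h => rel_of_corner a b (corner_congr ha hb h), ?_⟩
  rintro ⟨y, hy, x, hx, rfl⟩
  refine Subtype.ext (funext fun p => ?_)
  simp only [tableOf]
  symm
  refine Finset.card_equiv x fun j => ?_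
  simp only [Finset.mem_filter, Finset.mem_univ, true_and]
  rw [Equiv.Perm.mul_apply, Equiv.Perm.mul_apply,
    show lab ha (y (σ (x j))) = lab ha (σ (x j)) from Fin.ext (mem_young.1 hy _),
    show lab hb (x j) = lab hb j from Fin.ext (mem_young.1 hx _)]

include ha hb in
theorem card_young_orbits :
    Nat.card (MulAction.orbitRel.Quotient (Equiv.Perm (Fin n))
        ((Equiv.Perm (Fin n) ⧸ Cfsg.youngSubgroup a) × (Equiv.Perm (Fin n) ⧸ Cfsg.youngSubgroup b))) =
      Nat.card (Table a b) := by
  let A := pairOrbit (Cfsg.youngSubgroup a) (Cfsg.youngSubgroup b)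
  have hA : Function.Surjective A := pairOrbit_surjective _ _
  have hAB : ∀ σ τ, A σ = A τ ↔ tableOf ha hb σ = tableOf ha hb τ := fun σ τ => by
    rw [pairOrbit_eq_iff, tableOf_eq_iff]
  refine Nat.card_eq_of_bijective (fun o => tableOf ha hb (Function.surjInv hA o))
    ⟨fun o o' h => ?_, fun o => ?_⟩
  · have := (hAB _ _).2 h
    rwa [Function.surjInv_eq hA, Function.surjInv_eq hA] at this
  · obtain ⟨σ, rfl⟩ := tableOf_surjective ha hb o
    exact ⟨A σ, (hAB _ _).1 (Function.surjInv_eq hA (A σ))⟩

include ha hb in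
/-- The inner product of two flag characters. -/
theorem classInner_flag {F : Type*} [Field F] [Fintype F] [DecidableEq F] :
    Cfsg.classInner (Cfsg.fixedPointCharacter (Cfsg.parabolicGL n F a))
      (Cfsg.fixedPointCharacter (Cfsg.parabolicGL n F b)) = (Nat.card (Table a b) : ℂ) := by
  rw [← card_young_orbits ha hb, ← card_orbits (F := F), ← sum_fixed_mul, Cfsg.Lib.Chars.classInner_def]
  congr 1
  refine Finset.sum_congr rfl fun g _ => ?_
  simp [Cfsg.fixedPointCharacter]

end Cfsg.Lib.FlagCells
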