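import Cfsg.Agent.Known.SLFlag.InvEval
import Cfsg.Agent.Known.SLFlag.Tables

/-!
# Flag characters as chains of invariant subspaces

The fixed cosets of a parabolic subgroup are the chains of invariant subspaces with the prescribed steps, hence
their number is an entry of a product of incidence matrices.
-/

set_option autoImplicit false

open Module

namespace Cfsg.Lib.FlagCells

section Chains

variable {F V : Type*} [Field F] [AddCommGroup V] [Module F V] (T : Module.End F V)

/-- The chains of invariant subspaces with prescribed steps. -/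
abbrev Chain {m : ℕ} (c : Fin m → ℕ) (u w : Inv T) : Type _ :=
  {U : Fin (m + 1) → Inv T // U 0 = u ∧ U (Fin.last m) = w ∧ ∀ i : Fin m,
    U i.castSucc ≤ U i.succ ∧ finrank F (U i.succ).1 = finrank F (U i.castSucc).1 + c i}

variable [Finite F] [FiniteDimensional F V]

theorem prod_incid : ∀ (m : ℕ) (c : Fin m → ℕ) (u w : Inv T),
    (List.ofFn fun i => incid T (c i)).prod u w = (Nat.card (Chain T c u w) : ℤ) := by
  intro m
  induction m with
  | zero =>
    intro c u w
    rw [List.ofFn_zero, List.prod_nil, Matrix.one_apply]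
    split_ifs with h
    · subst h
      have : Unique (Chain T c u u) :=
        { default := ⟨fun _ => u, rfl, rfl, fun i => i.elim0⟩
          uniq := fun U => Subtype.ext (funext fun i => by rw [Subsingleton.elim (α := Fin 1) i 0]; exact U.2.1) }
      simp
    · have : IsEmpty (Chain T c u w) := ⟨fun U => h (U.2.1.symm.trans U.2.2.1)⟩
      simp
  | succ m ih =>
    intro c u w
    classical
    rw [List.ofFn_succ, List.prod_cons, Matrix.mul_apply]
    simp only [ih]
    have e : Chain T c u w ≃ Σ v : {v : Inv T // u ≤ v ∧ finrank F v.1 = finrank F u.1 + c 0},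
        Chain T (fun i => c i.succ) v.1 w :=
      { toFun := fun U => ⟨⟨U.1 1, by
            have h := U.2.2.2 0
            rw [Fin.castSucc_zero, U.2.1] at h
            exact h⟩,
          ⟨fun i => U.1 i.succ, rfl, U.2.2.1, fun i => by
            have h := U.2.2.2 i.succ
            rw [← Fin.succ_castSucc] at h
            exact h⟩⟩
        invFun := fun X => ⟨Fin.cons u X.2.1, Fin.cons_zero _ _, by
            rw [← Fin.succ_last, Fin.cons_succ, X.2.2.2.1], fun i => by
            refine Fin.cases ?_ (fun j => ?_) i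
            · rw [Fin.castSucc_zero, Fin.cons_zero, Fin.cons_succ, X.2.2.1]
              exact X.1.2
            · rw [← Fin.succ_castSucc, Fin.cons_succ, Fin.cons_succ]
              exact X.2.2.2.2 j⟩
        left_inv := fun U => Subtype.ext (funext fun i => Fin.cases (by simp [U.2.1]) (fun j => by simp) i)
        right_inv := by
          rintro ⟨⟨v, hv⟩, ⟨U, h0, h1, h2⟩⟩
          simp only at h0
          subst h0
          rfl }
    rw [Nat.card_congr e, Nat.card_sigma, Nat.cast_sum]
    rw [← Finset.sum_subset (Finset.subset_univ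
      (Finset.univ.filter fun v : Inv T => u ≤ v ∧ finrank F v.1 = finrank F u.1 + c 0))]
    · rw [Finset.sum_subtype (p := fun v : Inv T => u ≤ v ∧ finrank F v.1 = finrank F u.1 + c 0) _
        (fun v => by simp)]
      exact Finset.sum_congr rfl fun v _ => by rw [incid_apply_pos T v.2.1 v.2.2, one_mul]
    · intro v _ hv
      refine mul_eq_zero_of_left ?_ _
      by_contra hc
      exact hv (Finset.mem_filter.2 ⟨Finset.mem_univ _, incid_apply_ne_zero T hc⟩)

end Chains

variable {F : Type*} [Field F] {n : ℕ}

/-- The coordinate subspace of the blocks below `t`. -/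
def coordSub (c : Fin n → ℕ) (t : ℕ) : Submodule F (Fin n → F) where
  carrier := {v | ∀ i, t ≤ Cfsg.compLabel c i → v i = 0}
  add_mem' := fun {a b} ha hb i hi => by simp [ha i hi, hb i hi]
  zero_mem' := fun i _ => rfl
  smul_mem' := fun r a ha i hi => by simp [ha i hi]

theorem mem_coordSub {c : Fin n → ℕ} {t : ℕ} {v : Fin n → F} :
    v ∈ coordSub c t ↔ ∀ i, t ≤ Cfsg.compLabel c i → v i = 0 := Iff.rfl

theorem coordSub_mono (c : Fin n → ℕ) {s t : ℕ} (h : s ≤ t) : coordSub (F := F) c s ≤ coordSub c t :=
  fun _ hv i hi => hv i (h.trans hi)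

theorem finrank_coordSub (c : Fin n → ℕ) (t : ℕ) :
    finrank F (coordSub (F := F) c t) = (Finset.univ.filter fun i => Cfsg.compLabel c i < t).card := by
  have he : coordSub (F := F) c t = LinearMap.ker
      (LinearMap.funLeft F F (Subtype.val : {i : Fin n // t ≤ Cfsg.compLabel c i} → Fin n)) := by
    ext v
    simp [mem_coordSub, funext_iff, LinearMap.funLeft_apply]
  have h := LinearMap.finrank_range_add_finrank_ker
    (LinearMap.funLeft F F (Subtype.val : {i : Fin n // t ≤ Cfsg.compLabel c i} → Fin n))
  rw [LinearMap.range_eq_top.2 (LinearMap.funLeft_surjective_of_injective F F _ Subtype.val_injective),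
    finrank_top, Module.finrank_fintype_fun_eq_card, Module.finrank_fin_fun, Fintype.card_subtype, ← he] at h
  have h2 := Finset.card_filter_add_card_filter_not (s := (Finset.univ : Finset (Fin n)))
    (fun i => Cfsg.compLabel c i < t)
  simp only [Finset.card_univ, Fintype.card_fin, not_lt] at h2
  omega

theorem finrank_coordSub_succ {c : Fin n → ℕ} (hc : ∑ i, c i = n) (t : Fin n) :
    finrank F (coordSub (F := F) c (t + 1)) = finrank F (coordSub (F := F) c t) + c t := by
  rw [finrank_coordSub, finrank_coordSub, ← card_block hc t, ← Finset.card_union_of_disjoint]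
  · congr 1
    ext i
    simp only [Finset.mem_filter, Finset.mem_univ, true_and, Finset.mem_union, lab_eq_iff]
    omega
  · rw [Finset.disjoint_filter]
    intro i _ hi hi'
    rw [lab_eq_iff] at hi'
    omega

theorem blockTriangular_iff_stab (c : Fin n → ℕ) (M : Matrix (Fin n) (Fin n) F) :
    M.BlockTriangular (Cfsg.compLabel c) ↔ ∀ t v, v ∈ coordSub c t → M.mulVec v ∈ coordSub c t := by
  refine ⟨fun hM t v hv i hi => ?_, fun h i j hij => ?_⟩
  · rw [Matrix.mulVec, dotProduct]
    refine Finset.sum_eq_zero fun j _ => ?_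
    rcases lt_or_ge (Cfsg.compLabel c j) (Cfsg.compLabel c i) with hj | hj
    · simp only [hM hj, zero_mul]
    · rw [hv j (hi.trans hj), mul_zero]
  · have hv : (Pi.single j (1 : F) : Fin n → F) ∈ coordSub c (Cfsg.compLabel c j + 1) := fun k hk =>
      Pi.single_eq_of_ne (by rintro rfl; omega) _
    have := h _ _ hv i hij
    rwa [Matrix.mulVec_single_one] at this

variable [Finite F]

/-- The endomorphism of a matrix. -/
noncomputable abbrev endOf (g : GL (Fin n) F) : Module.End F (Fin n → F) :=
  Matrix.toLin' (g : Matrix (Fin n) (Fin n) F)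

/-- The flag of a coset representative. -/
noncomputable def flagSub (c : Fin n → ℕ) (h : GL (Fin n) F) (t : ℕ) : Submodule F (Fin n → F) :=
  (coordSub c t).map (endOf h)

theorem endOf_mul (g h : GL (Fin n) F) (v : Fin n → F) : endOf (g * h) v = endOf g (endOf h v) := by
  simp [endOf, Matrix.mulVec_mulVec]

theorem endOf_injective (g : GL (Fin n) F) : Function.Injective (endOf g) := by
  intro v w h
  have := congrArg (endOf g⁻¹) h
  rwa [← endOf_mul, ← endOf_mul, inv_mul_cancel, show endOf (1 : GL (Fin n) F) = LinearMap.id from by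
    simp [endOf]] at this

theorem finrank_flagSub (c : Fin n → ℕ) (h : GL (Fin n) F) (t : ℕ) :
    finrank F (flagSub c h t) = finrank F (coordSub (F := F) c t) :=
  ((coordSub c t).equivMapOfInjective _ (endOf_injective h)).finrank_eq.symm

theorem mem_parabolic_iff_flag (c : Fin n → ℕ) (g h k : GL (Fin n) F) :
    k⁻¹ * g * h ∈ Cfsg.parabolicGL n F c ↔ ∀ t, (flagSub c h t).map (endOf g) ≤ flagSub c k t := by
  rw [show k⁻¹ * g * h ∈ Cfsg.parabolicGL n F c ↔
    ((k⁻¹ * g * h : GL (Fin n) F) : Matrix (Fin n) (Fin n) F).BlockTriangular (Cfsg.compLabel c) from Iff.rfl,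
    blockTriangular_iff_stab]
  refine forall_congr' fun t => ⟨fun H => ?_, fun H v hv => ?_⟩
  · rw [flagSub, ← Submodule.map_comp]
    rintro _ ⟨v, hv, rfl⟩
    refine ⟨endOf (k⁻¹ * g * h) v, H v hv, ?_⟩
    rw [LinearMap.comp_apply, ← endOf_mul, ← endOf_mul, ← mul_assoc, mul_inv_cancel_left]
  · obtain ⟨u, hu, hu'⟩ := H (Submodule.mem_map_of_mem (Submodule.mem_map_of_mem (f := endOf h) hv))
    show endOf (k⁻¹ * g * h) v ∈ coordSub c t
    rw [endOf_mul, endOf_mul, ← hu', ← endOf_mul, inv_mul_cancel,
      show endOf (1 : GL (Fin n) F) = LinearMap.id from by simp [endOf]]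
    exact hu

theorem fixed_iff_inv (c : Fin n → ℕ) (g h : GL (Fin n) F) :
    (QuotientGroup.mk h : GL (Fin n) F ⧸ Cfsg.parabolicGL n F c) ∈ MulAction.fixedBy _ g ↔
      ∀ t, flagSub c h t ≤ (flagSub c h t).comap (endOf g) := by
  rw [MulAction.mem_fixedBy, MulAction.Quotient.smul_mk, eq_comm, QuotientGroup.eq, smul_eq_mul,
    ← mul_assoc, mem_parabolic_iff_flag]
  exact forall_congr' fun t => Submodule.map_le_iff_le_comap

theorem flag_eq_of_mem {c : Fin n → ℕ} {h k : GL (Fin n) F} (hk : k⁻¹ * h ∈ Cfsg.parabolicGL n F c) (t : ℕ) :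
    flagSub c h t = flagSub c k t := by
  refine Submodule.eq_of_le_of_finrank_le ?_ (by rw [finrank_flagSub, finrank_flagSub])
  have := (mem_parabolic_iff_flag c 1 h k).1 (by rwa [mul_one]) t
  rwa [show endOf (1 : GL (Fin n) F) = LinearMap.id from by simp [endOf], Submodule.map_id] at this

/-- Columns adapted to a chain. -/
theorem exists_columns {c : Fin n → ℕ} (hc : ∑ i, c i = n) (U : ℕ → Submodule F (Fin n → F))
    (hU : ∀ t : Fin n, finrank F (U (t + 1)) = ∑ k ∈ Finset.Iic t, c k) : ∀ k ≤ n,
    ∃ w : Fin k → (Fin n → F), LinearIndependent F w ∧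
      ∀ (j : Fin k) (i : Fin n), i.val = j.val → w j ∈ U (Cfsg.compLabel c i + 1) := by
  intro k
  induction k with
  | zero => exact fun _ => ⟨Fin.elim0, linearIndependent_empty_type, fun j => j.elim0⟩
  | succ k ih =>
    intro hk
    obtain ⟨w, hw, hwm⟩ := ih (by omega)
    have hlt : k < finrank F (U (Cfsg.compLabel c ⟨k, by omega⟩ + 1)) := by
      have h := (compLabel_le_iff (μ := c) ⟨k, by omega⟩ (lab hc ⟨k, by omega⟩)).1 le_rfl
      rw [← hU] at h
      exact h
    have hnot : ¬U (Cfsg.compLabel c ⟨k, by omega⟩ + 1) ≤ Submodule.span F (Set.range w) := fun h => by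
      have := (Submodule.finrank_mono h).trans_eq (finrank_span_eq_card hw)
      rw [Fintype.card_fin] at this
      omega
    obtain ⟨v, hv, hv'⟩ := SetLike.not_le_iff_exists.1 hnot
    refine ⟨Fin.snoc w v, linearIndependent_finSnoc.2 ⟨hw, hv'⟩, fun j => ?_⟩
    refine Fin.lastCases (fun i hi => ?_) (fun j i hi => ?_) j
    · rw [Fin.snoc_last, show i = ⟨k, by omega⟩ from Fin.ext hi]
      exact hv
    · rw [Fin.snoc_castSucc]
      exact hwm j i hi

theorem card_fixed_flag {c : Fin n → ℕ} (hc : ∑ i, c i = n) (g : GL (Fin n) F) :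
    Nat.card (MulAction.fixedBy (GL (Fin n) F ⧸ Cfsg.parabolicGL n F c) g) =
      Nat.card (Chain (endOf g) c (ibot (endOf g)) ⟨⊤, le_of_eq (Submodule.comap_top _).symm⟩) := by
  let P := Cfsg.parabolicGL n F c
  have hout : ∀ (y : GL (Fin n) F ⧸ P), QuotientGroup.mk (Quotient.out y) = y := QuotientGroup.out_eq'
  let Φ : MulAction.fixedBy (GL (Fin n) F ⧸ P) g → Chain (endOf g) c (ibot (endOf g))
      ⟨⊤, le_of_eq (Submodule.comap_top _).symm⟩ := fun y =>
    ⟨fun t => ⟨flagSub c (Quotient.out y.1) t.val,
        (fixed_iff_inv c g _).1 (by rw [hout]; exact y.2) t.val⟩,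
      Subtype.ext (by
        show flagSub c _ 0 = ⊥
        rw [← Submodule.finrank_eq_zero (R := F), finrank_flagSub, finrank_coordSub]
        simp),
      Subtype.ext (by
        show flagSub c _ n = ⊤
        refine Submodule.eq_top_of_finrank_eq ?_
        rw [finrank_flagSub, finrank_coordSub, Finset.filter_true_of_mem fun i _ => compLabel_lt hc i]
        simp),
      fun i => ⟨show flagSub c _ i.val ≤ flagSub c _ (i.val + 1) from
          Submodule.map_mono (coordSub_mono c (Nat.le_succ _)), by
        show finrank F (flagSub c _ (i.val + 1)) = finrank F (flagSub c _ i.val) + c i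
        rw [finrank_flagSub, finrank_flagSub, finrank_coordSub_succ hc]⟩⟩
  refine Nat.card_eq_of_bijective Φ ⟨fun y y' h => ?_, fun U => ?_⟩
  · refine Subtype.ext ?_
    rw [← hout y.1, ← hout y'.1, QuotientGroup.eq, ← mul_one (Quotient.out y.1)⁻¹, mem_parabolic_iff_flag]
    intro t
    rw [show endOf (1 : GL (Fin n) F) = LinearMap.id from by simp [endOf], Submodule.map_id]
    rcases le_or_gt t n with ht | ht
    · exact (congrArg Subtype.val (congrFun (congrArg Subtype.val h) ⟨t, by omega⟩)).ge
    · have : ∀ k : GL (Fin n) F, flagSub c k t = ⊤ := fun k => Submodule.eq_top_of_finrank_eq (by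
        rw [finrank_flagSub, finrank_coordSub,
          Finset.filter_true_of_mem fun i _ => (compLabel_lt hc i).trans ht]
        simp)
      rw [this, this]
  · let W : ℕ → Submodule F (Fin n → F) := fun t => (U.1 ⟨min t n, by omega⟩).1
    have hWa : ∀ i : Fin (n + 1), W i.val = (U.1 i).1 := fun i => by
      simp only [W]
      exact congrArg (fun j => (U.1 j).1) (Fin.ext (min_eq_left (Nat.le_of_lt_succ i.isLt)))
    have hW : ∀ t : ℕ, t ≤ n → finrank F (W t) =
        ∑ k ∈ Finset.univ.filter (fun k : Fin n => k.val < t), c k := by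
      intro t ht
      induction t with
      | zero =>
        have : W 0 = ⊥ := by
          refine (hWa 0).trans ?_
          rw [U.2.1]
        rw [this]
        simp
      | succ t ih =>
        have h := (U.2.2.2 ⟨t, ht⟩).2
        rw [show (Finset.univ.filter fun k : Fin n => k.val < t + 1) =
            insert ⟨t, ht⟩ (Finset.univ.filter fun k : Fin n => k.val < t) by
          ext k; simp [Fin.ext_iff]; omega, Finset.sum_insert (by simp), ← ih (by omega)]
        rw [← hWa, ← hWa] at h
        exact h.trans (Nat.add_comm _ _)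
    have hWmono : Monotone W := by
      refine monotone_nat_of_le_succ fun t => ?_
      rcases lt_or_ge t n with ht | ht
      · have h := (U.2.2.2 ⟨t, ht⟩).1
        replace h : (U.1 (Fin.castSucc ⟨t, ht⟩)).1 ≤ (U.1 (Fin.succ ⟨t, ht⟩)).1 := h
        rw [← hWa, ← hWa] at h
        exact h
      · simp only [W, Nat.min_eq_right ht, Nat.min_eq_right (ht.trans t.le_succ), le_refl]
    have hIic : ∀ t : Fin n, finrank F (W (t + 1)) = ∑ k ∈ Finset.Iic t, c k := fun t => by
      rw [hW _ t.isLt]
      refine Finset.sum_congr ?_ fun _ _ => rfl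
      ext k
      simp only [Finset.mem_filter, Finset.mem_univ, true_and, Finset.mem_Iic]
      exact ⟨fun h => Fin.le_def.2 (Nat.lt_succ_iff.1 h), fun h => Nat.lt_succ_iff.2 (Fin.le_def.1 h)⟩
    obtain ⟨w, hw, hwm⟩ := exists_columns hc W hIic n le_rfl
    let M : Matrix (Fin n) (Fin n) F := Matrix.of fun i j => w j i
    have hM : IsUnit M := Matrix.linearIndependent_cols_iff_isUnit.1 hw
    let h : GL (Fin n) F := hM.unit
    have hflag : ∀ t, t ≤ n → flagSub c h t = W t := by
      intro t ht
      refine Submodule.eq_of_le_of_finrank_le ?_ ?_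
      · rintro _ ⟨v, hv, rfl⟩
        have : endOf h v = ∑ j, v j • w j := by
          ext i
          simp [endOf, h, M, Matrix.mulVec, dotProduct, mul_comm]
        rw [this]
        refine Submodule.sum_mem _ fun j _ => ?_
        rcases lt_or_ge (Cfsg.compLabel c j) t with hj | hj
        · exact Submodule.smul_mem _ _ (hWmono (Nat.succ_le_of_lt hj) (hwm j j rfl))
        · rw [hv j hj, zero_smul]
          exact zero_mem _
      · rw [finrank_flagSub, finrank_coordSub, hW t ht,
          Finset.card_eq_sum_card_fiberwise (f := lab hc) (t := Finset.univ.filter fun k : Fin n => k.val < t)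
            (fun i hi => by simpa [lab] using hi)]
        refine (Finset.sum_congr rfl fun k hk => ?_).le
        rw [← card_block hc k, Finset.filter_filter]
        congr 1
        ext i
        simp only [Finset.mem_filter, Finset.mem_univ, true_and, lab_eq_iff] at hk ⊢
        omega
    have htop : ∀ t, n < t → flagSub c h t = ⊤ := fun t ht => Submodule.eq_top_of_finrank_eq (by
      rw [finrank_flagSub, finrank_coordSub, Finset.filter_true_of_mem fun i _ => (compLabel_lt hc i).trans ht]
      simp)
    have hfix : (QuotientGroup.mk h : GL (Fin n) F ⧸ P) ∈ MulAction.fixedBy _ g := by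
      refine (fixed_iff_inv c g h).2 fun t => ?_
      rcases le_or_gt t n with ht | ht
      · rw [hflag t ht]
        exact (U.1 ⟨min t n, by omega⟩).2
      · rw [htop t ht, Submodule.comap_top]
    refine ⟨⟨_, hfix⟩, Subtype.ext (funext fun t => Subtype.ext ?_)⟩
    show flagSub c (Quotient.out (QuotientGroup.mk h : GL (Fin n) F ⧸ P)) t.val = (U.1 t).1
    rw [← flag_eq_of_mem (h := h) (QuotientGroup.eq.1 (hout _)) t.val, hflag _ (Nat.lt_succ_iff.1 t.isLt)]
    exact hWa t

end Cfsg.Lib.FlagCells
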