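import Cfsg.Agent.Known.SLFlag.Hess

/-!
# The Moebius function of the lattice of invariant subspaces of a semisimple endomorphism

The signed Hessenberg determinant of the incidence matrices computes the Moebius function; for a semisimple
endomorphism it is a signed power of the cardinality of the field.
-/

set_option autoImplicit false

open Polynomial Module

namespace Cfsg.Lib.FlagCells

variable {F V : Type*} [Field F] [AddCommGroup V] [Module F V] (T : Module.End F V)

/-- The invariant subspaces. -/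
abbrev Inv : Type _ := {U : Submodule F V // U ≤ U.comap T}

section Basic

variable [Finite F] [FiniteDimensional F V]

noncomputable instance instFintypeInv : Fintype (Inv T) :=
  have : Finite V := Module.finite_of_finite F
  have : Finite (Submodule F V) := Finite.of_injective _ SetLike.coe_injective
  Fintype.ofFinite _

noncomputable instance instDecEqInv : DecidableEq (Inv T) := Classical.decEq _

open scoped Classical in
/-- The incidence matrix of a step of dimension `r`. -/
noncomputable def incid (r : ℕ) : Matrix (Inv T) (Inv T) ℤ :=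
  Matrix.of fun u w => if u ≤ w ∧ finrank F w.1 = finrank F u.1 + r then 1 else 0

theorem incid_apply_pos {r : ℕ} {u w : Inv T} (h : u ≤ w) (h' : finrank F w.1 = finrank F u.1 + r) :
    incid T r u w = 1 := by
  simp [incid, h, h']

theorem incid_apply_ne_zero {r : ℕ} {u w : Inv T} (h : incid T r u w ≠ 0) :
    u ≤ w ∧ finrank F w.1 = finrank F u.1 + r := by
  by_contra hc
  exact h (by simp only [incid, Matrix.of_apply, if_neg hc])

theorem incid_zero : incid T 0 = 1 := by
  ext u w
  rcases eq_or_ne u w with rfl | h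
  · rw [incid_apply_pos T le_rfl (add_zero _).symm, Matrix.one_apply_eq]
  · rw [Matrix.one_apply_ne h]
    by_contra hc
    obtain ⟨h1, h2⟩ := incid_apply_ne_zero T hc
    exact h (Subtype.ext (Submodule.eq_of_le_of_finrank_le h1 (by omega)))

theorem hMu_support : ∀ (m : ℕ) (u w : Inv T), hMu (incid T) m u w ≠ 0 →
    u ≤ w ∧ finrank F w.1 = finrank F u.1 + m := by
  intro m
  induction m using Nat.strong_induction_on with
  | _ m ih =>
    intro u w h
    rcases m with _ | k
    · rw [hMu_zero, Matrix.one_apply] at h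
      obtain rfl : u = w := by
        by_contra hc
        exact h (if_neg hc)
      exact ⟨le_rfl, rfl⟩
    · rw [hMu_succ (incid_zero T), Matrix.neg_apply, neg_ne_zero, Matrix.sum_apply] at h
      obtain ⟨j, hj, hne⟩ := Finset.exists_ne_zero_of_sum_ne_zero h
      rw [Matrix.mul_apply] at hne
      obtain ⟨v, -, hv⟩ := Finset.exists_ne_zero_of_sum_ne_zero hne
      obtain ⟨h1, h2⟩ := incid_apply_ne_zero T (left_ne_zero_of_mul hv)
      obtain ⟨h3, h4⟩ := ih (k - j) (by omega) v w (right_ne_zero_of_mul hv)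
      rw [Finset.mem_range] at hj
      exact ⟨h1.trans h3, by omega⟩

/-- The Moebius function. -/
noncomputable def mu (u w : Inv T) : ℤ := hMu (incid T) (finrank F w.1 - finrank F u.1) u w

theorem mu_self (u : Inv T) : mu T u u = 1 := by
  rw [mu, Nat.sub_self, hMu_zero, Matrix.one_apply_eq]

open scoped Classical in
theorem mu_interval {u w : Inv T} (h : u < w) :
    ∑ v ∈ Finset.univ.filter (fun v : Inv T => u ≤ v ∧ v ≤ w), mu T v w = 0 := by
  have hlt : finrank F u.1 < finrank F w.1 := Submodule.finrank_lt_finrank_of_lt h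
  obtain ⟨k, hk⟩ := Nat.exists_eq_add_of_lt hlt
  rw [← Finset.add_sum_erase _ _ (Finset.mem_filter.2 ⟨Finset.mem_univ u, le_rfl, h.le⟩)]
  suffices mu T u w = -∑ v ∈ (Finset.univ.filter (fun v : Inv T => u ≤ v ∧ v ≤ w)).erase u, mu T v w by
    rw [this, neg_add_cancel]
  conv_lhs => rw [mu, show finrank F w.1 - finrank F u.1 = k + 1 by omega, hMu_succ (incid_zero T),
    Matrix.neg_apply, Matrix.sum_apply]
  simp only [Matrix.mul_apply]
  rw [Finset.sum_comm]
  congr 1
  rw [← Finset.sum_subset (Finset.subset_univ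
    ((Finset.univ.filter (fun v : Inv T => u ≤ v ∧ v ≤ w)).erase u))]
  · refine Finset.sum_congr rfl fun v hv => ?_
    simp only [Finset.mem_erase, Finset.mem_filter, Finset.mem_univ, true_and] at hv
    obtain ⟨hvu, huv, hvw⟩ := hv
    have h1 : finrank F u.1 < finrank F v.1 := Submodule.finrank_lt_finrank_of_lt
      (show u.1 < v.1 from lt_of_le_of_ne huv fun hc => hvu (Subtype.ext hc).symm)
    have h2 : finrank F v.1 ≤ finrank F w.1 := Submodule.finrank_mono hvw
    rw [Finset.sum_eq_single (finrank F v.1 - finrank F u.1 - 1)]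
    · rw [incid_apply_pos T huv (by omega), one_mul, mu,
        show k - (finrank F v.1 - finrank F u.1 - 1) = finrank F w.1 - finrank F v.1 by omega]
    · intro j _ hj
      refine mul_eq_zero_of_left ?_ _
      by_contra hc
      have := (incid_apply_ne_zero T hc).2
      omega
    · intro hj
      rw [Finset.mem_range] at hj
      omega
  · intro v _ hv
    refine Finset.sum_eq_zero fun j _ => ?_
    by_contra hc
    obtain ⟨h1, h2⟩ := incid_apply_ne_zero T (left_ne_zero_of_mul hc)
    obtain ⟨h3, -⟩ := hMu_support T _ v w (right_ne_zero_of_mul hc)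
    refine hv (Finset.mem_erase.2 ⟨?_, Finset.mem_filter.2 ⟨Finset.mem_univ _, h1, h3⟩⟩)
    rintro rfl
    omega

omit [Finite F] [FiniteDimensional F V] in
theorem inv_inf (U U' : Inv T) : U.1 ⊓ U'.1 ≤ (U.1 ⊓ U'.1).comap T :=
  le_inf (inf_le_left.trans U.2) (inf_le_right.trans U'.2)

omit [Finite F] [FiniteDimensional F V] in
theorem inv_sup (U U' : Inv T) : U.1 ⊔ U'.1 ≤ (U.1 ⊔ U'.1).comap T :=
  sup_le (U.2.trans (Submodule.comap_mono le_sup_left)) (U'.2.trans (Submodule.comap_mono le_sup_right))

/-- The zero invariant subspace. -/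
abbrev ibot : Inv T := ⟨⊥, bot_le⟩

open scoped Classical in
theorem weisner {a w : Inv T} (h : a < w) :
    ∑ U ∈ Finset.univ.filter (fun U : Inv T => U ≤ w ∧ U.1 ⊓ a.1 = ⊥), mu T U w = 0 := by
  suffices ∀ (m : ℕ) (z : Inv T), z ≤ a → finrank F a.1 - finrank F z.1 = m →
      ∑ U ∈ Finset.univ.filter (fun U : Inv T => U ≤ w ∧ U.1 ⊓ a.1 = z.1), mu T U w = 0 from
    this _ (ibot T) (show ⊥ ≤ a.1 from bot_le) rfl
  intro m
  induction m using Nat.strong_induction_on with
  | _ m ih =>
    intro z hz hm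
    have key := mu_interval T (lt_of_le_of_lt hz h)
    rw [← Finset.sum_fiberwise_of_maps_to (t := Finset.univ.filter (fun y : Inv T => z ≤ y ∧ y ≤ a))
      (g := fun U : Inv T => (⟨U.1 ⊓ a.1, inv_inf T U a⟩ : Inv T))] at key
    · rw [← Finset.add_sum_erase _ _ (Finset.mem_filter.2 ⟨Finset.mem_univ z, le_rfl, hz⟩),
        Finset.sum_eq_zero (s := Finset.erase _ z), add_zero] at key
      · rw [← key, Finset.filter_filter]
        refine Finset.sum_congr (Finset.filter_congr fun U _ => ?_) fun _ _ => rfl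
        rw [Subtype.ext_iff]
        refine ⟨fun ⟨h1, h2⟩ => ⟨⟨?_, h1⟩, h2⟩, fun ⟨⟨_, h1⟩, h2⟩ => ⟨h1, h2⟩⟩
        exact show z.1 ≤ U.1 from h2 ▸ inf_le_left
      · intro y hy
        simp only [Finset.mem_erase, Finset.mem_filter, Finset.mem_univ, true_and] at hy
        obtain ⟨hyz, h1, h2⟩ := hy
        have hlt := Submodule.finrank_lt_finrank_of_lt
          (show z.1 < y.1 from lt_of_le_of_ne h1 fun hc => hyz (Subtype.ext hc).symm)
        have hle : finrank F y.1 ≤ finrank F a.1 := Submodule.finrank_mono h2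
        rw [← ih (finrank F a.1 - finrank F y.1) (by omega) y h2 rfl, Finset.filter_filter]
        refine Finset.sum_congr (Finset.filter_congr fun U _ => ?_) fun _ _ => rfl
        rw [Subtype.ext_iff]
        refine ⟨fun ⟨⟨_, h3⟩, h4⟩ => ⟨h3, h4⟩, fun ⟨h3, h4⟩ => ⟨⟨?_, h3⟩, h4⟩⟩
        exact show z.1 ≤ U.1 from (show z.1 ≤ y.1 from h1).trans (h4 ▸ inf_le_left)
    · intro U hU
      simp only [Finset.mem_filter, Finset.mem_univ, true_and] at hU ⊢
      exact ⟨le_inf (show z.1 ≤ U.1 from hU.1) hz, show U.1 ⊓ a.1 ≤ a.1 from inf_le_right⟩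

open scoped Classical in
theorem mu_translate {U a w : Inv T} (h1 : U.1 ⊓ a.1 = ⊥) (h2 : U.1 ⊔ a.1 = w.1) :
    mu T U w = mu T (ibot T) a := by
  have hUw : U ≤ w := show U.1 ≤ w.1 from h2 ▸ le_sup_left
  have haw : a.1 ≤ w.1 := h2 ▸ le_sup_right
  suffices ∀ (m : ℕ) (v : Inv T), U ≤ v → v ≤ w → finrank F w.1 - finrank F v.1 = m →
      mu T v w = mu T ⟨v.1 ⊓ a.1, inv_inf T v a⟩ a by
    rw [this _ U le_rfl hUw rfl]
    congr 1
    exact Subtype.ext h1
  have hback : ∀ v : Submodule F V, U.1 ≤ v → v ≤ w.1 → v ⊓ a.1 ⊔ U.1 = v := fun v hv hv' => by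
    rw [sup_comm, inf_comm, ← sup_inf_assoc_of_le a.1 hv, h2, inf_eq_right.2 hv']
  intro m
  induction m using Nat.strong_induction_on with
  | _ m ih =>
    intro v hv hv' hm
    rcases eq_or_ne v w with rfl | hne
    · rw [mu_self]
      convert (mu_self T a).symm using 2
      exact Subtype.ext (inf_eq_right.2 haw)
    · have hlt : v < w := lt_of_le_of_ne hv' hne
      have hlt' : (⟨v.1 ⊓ a.1, inv_inf T v a⟩ : Inv T) < a := by
        refine lt_of_le_of_ne (show v.1 ⊓ a.1 ≤ a.1 from inf_le_right) fun hc => hne ?_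
        refine Subtype.ext ?_
        rw [← hback v.1 hv hv', show v.1 ⊓ a.1 = a.1 from congrArg Subtype.val hc, sup_comm, h2]
      have k1 := mu_interval T hlt
      have k2 := mu_interval T hlt'
      rw [← Finset.add_sum_erase _ _ (Finset.mem_filter.2 ⟨Finset.mem_univ v, le_rfl, hv'⟩)] at k1
      rw [← Finset.add_sum_erase _ _ (Finset.mem_filter.2 ⟨Finset.mem_univ _, le_rfl, hlt'.le⟩)] at k2
      suffices e : ∀ s1 s2 : ℤ, mu T v w + s1 = 0 → mu T ⟨v.1 ⊓ a.1, inv_inf T v a⟩ a + s2 = 0 → s1 = s2 →
          mu T v w = mu T ⟨v.1 ⊓ a.1, inv_inf T v a⟩ a by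
        refine e _ _ k1 k2 ?_
        refine Finset.sum_nbij' (fun y => ⟨y.1 ⊓ a.1, inv_inf T y a⟩) (fun z => ⟨z.1 ⊔ U.1, inv_sup T z U⟩)
          ?_ ?_ ?_ ?_ ?_
        · intro y hy
          simp only [Finset.mem_erase, Finset.mem_filter, Finset.mem_univ, true_and] at hy ⊢
          obtain ⟨hy3, hy1, hy2⟩ := hy
          refine ⟨fun hc => hy3 (Subtype.ext ?_), show v.1 ⊓ a.1 ≤ y.1 ⊓ a.1 from inf_le_inf_right _ hy1, show y.1 ⊓ a.1 ≤ a.1 from
            inf_le_right⟩
          rw [← hback y.1 ((show U.1 ≤ v.1 from hv).trans hy1) hy2, ← hback v.1 hv hv']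
          exact congrArg (· ⊔ U.1) (congrArg Subtype.val hc)
        · intro z hz
          simp only [Finset.mem_erase, Finset.mem_filter, Finset.mem_univ, true_and] at hz ⊢
          obtain ⟨hz3, hz1, hz2⟩ := hz
          refine ⟨fun hc => hz3 (Subtype.ext ?_), ?_, ?_⟩
          rotate_left
          · show v.1 ≤ z.1 ⊔ U.1
            rw [← hback v.1 hv hv']
            exact sup_le_sup_right (show v.1 ⊓ a.1 ≤ z.1 from hz1) _
          · exact sup_le ((show z.1 ≤ a.1 from hz2).trans haw) hUw
          · show z.1 = v.1 ⊓ a.1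
            rw [← show z.1 ⊔ U.1 = v.1 from congrArg Subtype.val hc, sup_inf_assoc_of_le _ hz2, h1, sup_bot_eq]
        · intro y hy
          simp only [Finset.mem_erase, Finset.mem_filter, Finset.mem_univ, true_and] at hy
          exact Subtype.ext (hback y.1 ((show U.1 ≤ v.1 from hv).trans hy.2.1) hy.2.2)
        · intro z hz
          simp only [Finset.mem_erase, Finset.mem_filter, Finset.mem_univ, true_and] at hz
          refine Subtype.ext ?_
          show (z.1 ⊔ U.1) ⊓ a.1 = z.1
          rw [sup_inf_assoc_of_le _ (show z.1 ≤ a.1 from hz.2.2), h1, sup_bot_eq]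
        · intro y hy
          simp only [Finset.mem_erase, Finset.mem_filter, Finset.mem_univ, true_and] at hy
          obtain ⟨hy3, hy1, hy2⟩ := hy
          have := Submodule.finrank_lt_finrank_of_lt (show v.1 < y.1 from lt_of_le_of_ne hy1 fun hc => hy3 (Subtype.ext hc).symm)
          have hle : finrank F y.1 ≤ finrank F w.1 := Submodule.finrank_mono hy2
          exact ih (finrank F w.1 - finrank F y.1) (by omega) y (hv.trans hy1) hy2 rfl
      intro s1 s2 e1 e2 e3
      linarith

end Basic

end Cfsg.Lib.FlagCells
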