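import Cfsg.Agent.Known.SLFlag.Cauchy
import Cfsg.Agent.Known.SLFlag.Tables
import Cfsg.Agent.Chars.Construct

/-!
# Orthonormality of the alternating sums of flag characters

`Σ sgn κ sgn κ' N(λ - κ, λ' - κ') = δ`, by Cauchy's determinant applied to the counting functional
of tables with forbidden cells.
-/

set_option autoImplicit false

open MvPolynomial

namespace Cfsg.Lib.FlagCells

variable {n : ℕ}

/-- Tables supported in `T`, with margins `lam - d` and `lam' - d`. -/
abbrev RestTable (lam lam' : Fin n → ℕ) (T : Finset (Fin n × Fin n)) (d : (Fin n ⊕ Fin n) →₀ ℕ) :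
    Type :=
  {M : Fin n × Fin n → ℕ // (∀ p, p ∉ T → M p = 0) ∧ (∀ i, ∑ j, M (i, j) + d (Sum.inl i) = lam i) ∧
    ∀ j, ∑ i, M (i, j) + d (Sum.inr j) = lam' j}

instance (lam lam' : Fin n → ℕ) (T : Finset (Fin n × Fin n)) (d : (Fin n ⊕ Fin n) →₀ ℕ) :
    Finite (RestTable lam lam' T d) := by
  refine Finite.of_injective (fun (M : RestTable lam lam' T d) (p : Fin n × Fin n) =>
    (⟨M.1 p, Nat.lt_succ_of_le ?_⟩ : Fin (lam p.1 + 1))) ?_
  · rw [← M.2.2.1 p.1]
    exact (Finset.single_le_sum (f := fun j => M.1 (p.1, j)) (fun _ _ => Nat.zero_le _)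
      (Finset.mem_univ p.2)).trans (Nat.le_add_right _ _)
  · intro M N h
    exact Subtype.ext (funext fun p => congrArg Fin.val (congrFun h p))

/-- The counting functional. -/
noncomputable def countL (lam lam' : Fin n → ℕ) (T : Finset (Fin n × Fin n)) :
    MvPolynomial (Fin n ⊕ Fin n) ℤ →ₗ[ℤ] ℤ :=
  (basisMonomials (Fin n ⊕ Fin n) ℤ).constr ℤ fun d => (Nat.card (RestTable lam lam' T d) : ℤ)

theorem countL_monomial (lam lam' : Fin n → ℕ) (T : Finset (Fin n × Fin n))
    (d : (Fin n ⊕ Fin n) →₀ ℕ) (c : ℤ) :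
    countL lam lam' T (monomial d c) = c * (Nat.card (RestTable lam lam' T d) : ℤ) := by
  have e : monomial d c = c • (monomial d (1 : ℤ)) := by rw [MvPolynomial.smul_monomial]; simp
  rw [e, map_smul]
  congr 1
  rw [countL, show monomial d (1 : ℤ) = basisMonomials (Fin n ⊕ Fin n) ℤ d from
    (congrFun (coe_basisMonomials (σ := Fin n ⊕ Fin n) (R := ℤ)) d).symm, Module.Basis.constr_basis]

theorem card_restTable_split (lam lam' : Fin n → ℕ) {T : Finset (Fin n × Fin n)} {p : Fin n × Fin n}
    (hp : p ∈ T) (d : (Fin n ⊕ Fin n) →₀ ℕ) :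
    Nat.card (RestTable lam lam' T d) = Nat.card (RestTable lam lam' (T.erase p) d) +
      Nat.card (RestTable lam lam' T (Finsupp.single (Sum.inl p.1) 1 + Finsupp.single (Sum.inr p.2) 1 + d)) := by
  classical
  obtain ⟨a, b⟩ := p
  set e := Finsupp.single (Sum.inl a : Fin n ⊕ Fin n) 1 + Finsupp.single (Sum.inr b) 1 + d with he
  have el : ∀ i, e (Sum.inl i) = (if i = a then 1 else 0) + d (Sum.inl i) := fun i => by
    simp [he, Finsupp.single_apply, eq_comm (a := a)]
  have er : ∀ j, e (Sum.inr j) = (if j = b then 1 else 0) + d (Sum.inr j) := fun j => by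
    simp [he, Finsupp.single_apply, eq_comm (a := b)]
  rw [← Nat.card_sum]
  let fwd0 : RestTable lam lam' (T.erase (a, b)) d → RestTable lam lam' T d := fun M =>
    ⟨M.1, fun q hq => M.2.1 q (fun h => hq (Finset.mem_of_mem_erase h)), M.2.2⟩
  let fwd1 : RestTable lam lam' T e → RestTable lam lam' T d := fun M =>
    ⟨fun q => M.1 q + if q = (a, b) then 1 else 0, fun q hq => by
      simp only [M.2.1 q hq, if_neg (fun h : q = (a, b) => hq (h ▸ hp))], fun i => by
      have := M.2.2.1 i
      rw [el] at this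
      rw [← this, Finset.sum_add_distrib]
      by_cases hi : i = a
      · subst hi; simp; omega
      · simp [hi], fun j => by
      have := M.2.2.2 j
      rw [er] at this
      rw [← this, Finset.sum_add_distrib]
      by_cases hj : j = b
      · subst hj; simp; omega
      · simp [hj]⟩
  refine (Nat.card_eq_of_bijective (Sum.elim fwd0 fwd1) ⟨?_, ?_⟩).symm
  · rintro (M | M) (N | N) h <;> have h' := congrArg Subtype.val h
    · exact congrArg Sum.inl (Subtype.ext h')
    · have := congrFun h' (a, b)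
      simp only [fwd0, fwd1, Sum.elim_inl, Sum.elim_inr, if_true] at this
      rw [M.2.1 (a, b) (Finset.notMem_erase _ _)] at this
      omega
    · have := congrFun h' (a, b)
      simp only [fwd0, fwd1, Sum.elim_inl, Sum.elim_inr, if_true] at this
      rw [N.2.1 (a, b) (Finset.notMem_erase _ _)] at this
      omega
    · refine congrArg Sum.inr (Subtype.ext (funext fun q => ?_))
      have := congrFun h' q
      simp only [fwd1, Sum.elim_inr] at this
      omega
  · intro M
    by_cases h0 : M.1 (a, b) = 0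
    · refine ⟨Sum.inl ⟨M.1, fun q hq => ?_, M.2.2⟩, rfl⟩
      by_cases hq' : q = (a, b)
      · rw [hq']; exact h0
      · exact M.2.1 q (fun h => hq (Finset.mem_erase.2 ⟨hq', h⟩))
    · have hM : ∀ q, M.1 q - (if q = (a, b) then 1 else 0) + (if q = (a, b) then 1 else 0) = M.1 q :=
        fun q => by split_ifs with h <;> [subst h; skip] <;> omega
      refine ⟨Sum.inr ⟨fun q => M.1 q - if q = (a, b) then 1 else 0, fun q hq => ?_, fun i => ?_,
        fun j => ?_⟩, Subtype.ext (funext hM)⟩
      · simp only [M.2.1 q hq, Nat.zero_sub]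
      · have := M.2.2.1 i
        rw [el, ← this]
        conv_rhs => rw [← Finset.sum_congr rfl (fun j _ => hM (i, j)), Finset.sum_add_distrib]
        by_cases hi : i = a
        · subst hi; simp; omega
        · simp [hi]
      · have := M.2.2.2 j
        rw [er, ← this]
        conv_rhs => rw [← Finset.sum_congr rfl (fun i _ => hM (i, j)), Finset.sum_add_distrib]
        by_cases hj : j = b
        · subst hj; simp; omega
        · simp [hj]

theorem countL_factor (lam lam' : Fin n → ℕ) {T : Finset (Fin n × Fin n)} {p : Fin n × Fin n}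
    (hp : p ∈ T) (f : MvPolynomial (Fin n ⊕ Fin n) ℤ) :
    countL lam lam' T ((1 - X (Sum.inl p.1) * X (Sum.inr p.2)) * f) =
      countL lam lam' (T.erase p) f := by
  induction f using MvPolynomial.induction_on' with
  | monomial d c =>
    rw [sub_mul, one_mul, show (X (Sum.inl p.1) : MvPolynomial (Fin n ⊕ Fin n) ℤ) * X (Sum.inr p.2) =
      monomial (Finsupp.single (Sum.inl p.1) 1 + Finsupp.single (Sum.inr p.2) 1) 1 by
        simp [X, monomial_mul], monomial_mul, one_mul, map_sub, countL_monomial, countL_monomial,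
      countL_monomial, card_restTable_split lam lam' hp d]
    push_cast
    ring
  | add f g hf hg => rw [mul_add, map_add, map_add, hf, hg]

theorem countL_prod (lam lam' : Fin n → ℕ) (A : Finset (Fin n × Fin n)) :
    ∀ T : Finset (Fin n × Fin n), A ⊆ T → ∀ f : MvPolynomial (Fin n ⊕ Fin n) ℤ,
      countL lam lam' T ((∏ p ∈ A, (1 - X (Sum.inl p.1) * X (Sum.inr p.2))) * f) =
        countL lam lam' (T \ A) f := by
  classical
  induction A using Finset.induction_on with
  | empty => intro T _ f; simp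
  | insert p A hpA ih =>
    intro T hT f
    rw [Finset.prod_insert hpA, mul_assoc, countL_factor lam lam' (hT (Finset.mem_insert_self p A)),
      ih _ (fun q hq => Finset.mem_erase.2 ⟨fun h => hpA (by subst h; exact hq), hT (Finset.mem_insert_of_mem hq)⟩) f]
    congr 2
    ext q
    simp only [Finset.mem_sdiff, Finset.mem_erase, Finset.mem_insert, not_or]
    tauto

theorem countL_graph (lam lam' : Fin n → ℕ) (σ : Equiv.Perm (Fin n)) :
    countL lam lam' (Finset.univ.filter fun p : Fin n × Fin n => p.2 = σ p.1) 1 =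
      if ∀ i, lam' (σ i) = lam i then 1 else 0 := by
  classical
  rw [show (1 : MvPolynomial (Fin n ⊕ Fin n) ℤ) = monomial 0 1 from rfl, countL_monomial, one_mul]
  have key : ∀ M : RestTable lam lam' (Finset.univ.filter fun p : Fin n × Fin n => p.2 = σ p.1) 0,
      ∀ i, M.1 (i, σ i) = lam i ∧ M.1 (i, σ i) = lam' (σ i) := by
    intro M i
    constructor
    · rw [← M.2.2.1 i, Finset.sum_eq_single (σ i)]
      · simp
      · intro j _ hj; exact M.2.1 _ (by simp [hj])
      · simp
    · rw [← M.2.2.2 (σ i), Finset.sum_eq_single i]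
      · simp
      · intro k _ hk; exact M.2.1 _ (by simp [Ne.symm hk])
      · simp
  split_ifs with h
  · rw [Nat.cast_eq_one, Nat.card_eq_one_iff_unique]
    refine ⟨⟨fun M N => Subtype.ext (funext fun q => ?_)⟩, ⟨⟨fun q => if q.2 = σ q.1 then lam q.1 else 0,
      fun q hq => if_neg (by simpa using hq), fun i => by simp, fun j => ?_⟩⟩⟩
    · by_cases hq : q.2 = σ q.1
      · rw [show q = (q.1, σ q.1) from Prod.ext rfl hq, (key M _).1, (key N _).1]
      · rw [M.2.1 q (by simp [hq]), N.2.1 q (by simp [hq])]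
    · simp only [Finsupp.coe_zero, Pi.zero_apply, add_zero]
      rw [Finset.sum_eq_single (σ.symm j)]
      · rw [if_pos (by simp), ← h (σ.symm j)]
        simp
      · intro k _ hk
        rw [if_neg]
        intro e
        exact hk (by rw [e]; simp)
      · simp
  · rw [Nat.cast_eq_zero, Nat.card_eq_zero]
    exact Or.inl ⟨fun M => h fun i => (key M i).2.symm.trans (key M i).1⟩

/-- The exponent of a pair of permutations. -/
noncomputable def expOf (κ κ' : Equiv.Perm (Fin n)) : (Fin n ⊕ Fin n) →₀ ℕ :=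
  Finsupp.equivFunOnFinite.symm (Sum.elim (fun i => (κ i).val) fun i => (κ' i).val)

theorem det_vandermonde_X (g : Fin n → Fin n ⊕ Fin n) :
    (Matrix.vandermonde fun i => (X (g i) : MvPolynomial (Fin n ⊕ Fin n) ℤ)).det =
      ∑ κ : Equiv.Perm (Fin n), (Equiv.Perm.sign κ : ℤ) • ∏ i, X (g i) ^ (κ i).val := by
  rw [← Matrix.det_transpose, Matrix.det_apply]
  exact Finset.sum_congr rfl fun κ _ => rfl

theorem prod_X_expOf (κ κ' : Equiv.Perm (Fin n)) :
    (∏ i, (X (Sum.inl i) : MvPolynomial (Fin n ⊕ Fin n) ℤ) ^ (κ i).val) *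
      ∏ i, X (Sum.inr i) ^ (κ' i).val = monomial (expOf κ κ') 1 := by
  rw [monomial_eq, C_1, one_mul, Finsupp.prod_fintype _ _ (fun _ => pow_zero _), Fintype.prod_sum_type]
  rfl

/-- The orthonormality of the alternating sums. -/
theorem sum_sign_restTable {lam lam' : Fin n → ℕ} (h : StrictMono lam) (h' : StrictMono lam') :
    ∑ κ : Equiv.Perm (Fin n), ∑ κ' : Equiv.Perm (Fin n),
      (Equiv.Perm.sign κ : ℤ) * (Equiv.Perm.sign κ' : ℤ) *
        (Nat.card (RestTable lam lam' Finset.univ (expOf κ κ')) : ℤ) =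
      if lam = lam' then 1 else 0 := by
  classical
  have hc := congrArg (countL lam lam' Finset.univ) (cauchy_poly n)
  rw [det_vandermonde_X, det_vandermonde_X, Finset.sum_mul_sum] at hc
  simp only [map_sum, map_zsmul, smul_mul_assoc, mul_smul_comm, prod_X_expOf, countL_monomial,
    smul_eq_mul, one_mul] at hc
  have hl : ∀ σ : Equiv.Perm (Fin n), countL lam lam' Finset.univ
      (∏ p ∈ Finset.univ.filter (fun p : Fin n × Fin n => p.2 ≠ σ p.1),
        (1 - X (Sum.inl p.1) * X (Sum.inr p.2))) = if ∀ i, lam' (σ i) = lam i then 1 else 0 := by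
    intro σ
    have h1 := countL_prod lam lam' _ Finset.univ
      (Finset.subset_univ (Finset.univ.filter fun p : Fin n × Fin n => p.2 ≠ σ p.1)) 1
    rw [mul_one] at h1
    rw [h1, ← countL_graph]
    congr 2
    ext p
    simp
  simp only [hl] at hc
  have hσ : ∀ σ : Equiv.Perm (Fin n), (∀ i, lam' (σ i) = lam i) → σ = 1 ∧ lam = lam' := by
    intro σ hs
    have hmono : StrictMono σ := fun a b hab => h'.lt_iff_lt.1 (by rw [hs, hs]; exact h hab)
    have h1 : σ = 1 := Equiv.ext fun i =>
      congrFun ((StrictMono.range_inj hmono strictMono_id).1 (by simp)) i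
    subst h1
    exact ⟨rfl, funext fun i => (hs i).symm⟩
  refine Eq.trans (Finset.sum_congr rfl fun κ _ => Finset.sum_congr rfl fun κ' _ => ?_) (hc.symm.trans ?_)
  · ring
  rw [Finset.sum_eq_single (1 : Equiv.Perm (Fin n))]
  · rw [Equiv.Perm.sign_one, Units.val_one, one_mul]
    exact if_congr ⟨fun hs => (hσ 1 hs).2, fun e i => by rw [e]; rfl⟩ rfl rfl
  · intro σ _ hne
    rw [if_neg (fun hs => hne (hσ σ hs).1), mul_zero]
  · intro hh; exact absurd (Finset.mem_univ _) hh

variable {F : Type*} [Field F] [Fintype F]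

theorem sum_comp_eq {ν : Fin n → ℕ} (hsum : ∑ i, ν i = n) {κ : Equiv.Perm (Fin n)}
    (hκ : ∀ i : Fin n, (κ i).val ≤ ν i + i.val) :
    ∑ i : Fin n, (ν i + i.val - (κ i).val) = n := by
  have h1 : ∑ i : Fin n, (κ i).val = ∑ i : Fin n, i.val := Equiv.sum_comp κ (fun i => i.val)
  have h2 : ∑ i : Fin n, (ν i + i.val - (κ i).val) + ∑ i : Fin n, (κ i).val =
      ∑ i : Fin n, (ν i + i.val) := by
    rw [← Finset.sum_add_distrib]
    exact Finset.sum_congr rfl fun i _ => Nat.sub_add_cancel (hκ i)
  rw [Finset.sum_add_distrib, hsum] at h2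
  omega

theorem card_table_eq_rest {ν ν' : Fin n → ℕ} {κ κ' : Equiv.Perm (Fin n)}
    (hκ : ∀ i : Fin n, (κ i).val ≤ ν i + i.val) (hκ' : ∀ i : Fin n, (κ' i).val ≤ ν' i + i.val) :
    Nat.card (Table (fun i => ν i + i.val - (κ i).val) fun i => ν' i + i.val - (κ' i).val) =
      Nat.card (RestTable (fun i => ν i + i.val) (fun i => ν' i + i.val) Finset.univ (expOf κ κ')) := by
  refine Nat.card_congr (Equiv.subtypeEquivRight fun M => ?_)
  simp only [Finset.mem_univ, not_true, false_imp_iff, implies_true, true_and]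
  refine and_congr (forall_congr' fun i => ?_) (forall_congr' fun j => ?_)
  · have := hκ i
    show _ ↔ _ + (κ i).val = _
    omega
  · have := hκ' j
    show _ ↔ _ + (κ' j).val = _
    omega

theorem classInner_unipotent [DecidableEq F] {ν ν' : Fin n → ℕ} (hν : Monotone ν) (hν' : Monotone ν')
    (hs : ∑ i, ν i = n) (hs' : ∑ i, ν' i = n) :
    Cfsg.classInner (Cfsg.unipotentCharacterGL n F ν) (Cfsg.unipotentCharacterGL n F ν') =
      if ν = ν' then 1 else 0 := by
  classical
  have hstrict : ∀ {μ : Fin n → ℕ}, Monotone μ → StrictMono fun i => μ i + i.val := fun {μ} hμ a b hab => by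
    have h1 := hμ hab.le
    have h2 := Fin.lt_def.1 hab
    show μ a + a.val < μ b + b.val
    omega
  have h := congrArg (fun z : ℤ => (z : ℂ)) (sum_sign_restTable (hstrict hν) (hstrict hν'))
  simp only [Int.cast_sum, Int.cast_mul, Int.cast_natCast] at h
  have hexp : ∀ ν : Fin n → ℕ, Cfsg.unipotentCharacterGL n F ν = ∑ κ : Equiv.Perm (Fin n),
      (if ∀ i : Fin n, (κ i).val ≤ ν i + i.val then ((Equiv.Perm.sign κ : ℤ) : ℂ) else 0) •
        Cfsg.fixedPointCharacter (Cfsg.parabolicGL n F fun i => ν i + i.val - (κ i).val) := by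
    intro μ
    funext g
    rw [Cfsg.unipotentCharacterGL, Finset.sum_apply]
    refine Finset.sum_congr rfl fun κ _ => ?_
    rw [Pi.smul_apply, smul_eq_mul]
    split_ifs <;> simp
  have hiff : ν = ν' ↔ (fun i : Fin n => ν i + i.val) = fun i => ν' i + i.val :=
    ⟨fun e => by rw [e], fun e => funext fun i => by have := congrFun e i; omega⟩
  rw [hexp, hexp, Cfsg.Lib.Chars.classInner_sum_left,
    show (if ν = ν' then (1 : ℂ) else 0) = (((if (fun i : Fin n => ν i + i.val) = fun i => ν' i + i.val
      then 1 else 0 : ℤ)) : ℂ) by simp [← hiff]]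
  refine Eq.trans ?_ h
  refine Finset.sum_congr rfl fun κ _ => ?_
  rw [Cfsg.Lib.Chars.classInner_smul_left, Cfsg.Lib.Chars.classInner_sum_right, Finset.mul_sum]
  refine Finset.sum_congr rfl fun κ' _ => ?_
  rw [Cfsg.Lib.Chars.classInner_smul_right]
  by_cases hκ : ∀ i : Fin n, (κ i).val ≤ ν i + i.val
  · by_cases hκ' : ∀ i : Fin n, (κ' i).val ≤ ν' i + i.val
    · rw [if_pos hκ, if_pos hκ', classInner_flag (sum_comp_eq hs hκ) (sum_comp_eq hs' hκ'),
        card_table_eq_rest hκ hκ', map_intCast, mul_assoc]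
    · rw [if_neg hκ', map_zero, zero_mul, mul_zero]
      push Not at hκ'
      obtain ⟨j, hj⟩ := hκ'
      symm
      rw [Nat.card_eq_zero.2 (Or.inl ⟨fun M => ?_⟩), Nat.cast_zero, mul_zero]
      have := M.2.2.2 j
      rw [show expOf κ κ' (Sum.inr j) = (κ' j).val from rfl] at this
      simp only at this
      omega
  · rw [if_neg hκ, zero_mul]
    push Not at hκ
    obtain ⟨i, hi⟩ := hκ
    symm
    rw [Nat.card_eq_zero.2 (Or.inl ⟨fun M => ?_⟩), Nat.cast_zero, mul_zero]
    have := M.2.2.1 i
    rw [show expOf κ κ' (Sum.inl i) = (κ i).val from rfl] at this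
    simp only at this
    omega

end Cfsg.Lib.FlagCells
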