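import Cfsg.Agent.Known.SLFlag.InvFlags

/-!
# The Steinberg character of a general linear group at semisimple elements

The alternating sum of flag characters is a Moebius number of the lattice of invariant subspaces.
-/

set_option autoImplicit false

open Polynomial Module UniqueFactorizationMonoid

namespace Cfsg.Lib.FlagCells

variable {F : Type*} [Field F] [Fintype F] {n : ℕ}

/-- The top invariant subspace. -/
noncomputable abbrev itop (g : GL (Fin n) F) : Inv (endOf g) := ⟨⊤, le_of_eq (Submodule.comap_top _).symm⟩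

theorem steinberg_eq_mu (g : GL (Fin n) F) :
    Cfsg.unipotentCharacterGL n F (fun _ => 1) g =
      ((-1 : ℤ) ^ n * mu (endOf g) (ibot (endOf g)) (itop g) : ℤ) := by
  have hmu : mu (endOf g) (ibot (endOf g)) (itop g) = (-1 : ℤ) ^ n * hDet (incid (endOf g)) 1 n (ibot (endOf g)) (itop g) := by
    rw [mu, show finrank F (itop g).1 - finrank F (ibot (endOf g)).1 = n by simp, hMu, Matrix.smul_apply,
      smul_eq_mul]
  rw [hmu, ← mul_assoc, ← mul_pow, neg_one_mul, neg_neg, one_pow, one_mul, hDet, Matrix.sum_apply, Int.cast_sum]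
  refine Finset.sum_congr rfl fun κ _ => ?_
  simp only [Matrix.smul_apply, smul_eq_mul, Int.cast_mul, hTerm]
  split_ifs with hκ
  · rw [show (fun i : Fin n => hEnt (incid (endOf g)) 1 i.val (κ i).val) =
        fun i : Fin n => incid (endOf g) (1 + i.val - (κ i).val) from funext fun i => ?_]
    · rw [prod_incid, Cfsg.fixedPointCharacter, card_fixed_flag]
      · rfl
      · have h1 : ∑ i : Fin n, ((1 + i.val - (κ i).val) + (κ i).val) = ∑ i : Fin n, (1 + i.val) :=
          Finset.sum_congr rfl fun i _ => Nat.sub_add_cancel (hκ i)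
        rw [Finset.sum_add_distrib, Finset.sum_add_distrib, Equiv.sum_comp κ (fun i : Fin n => i.val)] at h1
        simpa using h1
    · rw [hEnt]
      rcases Nat.eq_zero_or_pos (κ i).val with h0 | h0
      · rw [if_pos h0, h0, Nat.sub_zero]
      · rw [if_neg (by omega), if_pos (by have := hκ i; omega), add_comm i.val 1]
  · obtain ⟨i, hi⟩ := not_forall.1 hκ
    rw [List.prod_eq_zero (by
      rw [List.mem_ofFn]
      exact ⟨i, by simp [hEnt, show (κ i).val ≠ 0 by omega, show ¬(κ i).val ≤ i.val + 1 by omega]⟩)]
    simp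

omit [Fintype F] in
theorem endOf_semisimple (p : ℕ) [Fact p.Prime] [CharP F p] {x : GL (Fin n) F} (hx : (orderOf x).Coprime p) :
    (endOf x).IsSemisimple := by
  have hN : (orderOf x : F) ≠ 0 := fun h => by
    rw [CharP.cast_eq_zero_iff F p] at h
    exact (Fact.out : p.Prime).ne_one (Nat.Coprime.eq_one_of_dvd hx.symm h)
  refine Module.End.isSemisimple_of_squarefree_aeval_eq_zero
    (Polynomial.separable_X_pow_sub_C (1 : F) hN one_ne_zero).squarefree ?_
  rw [map_sub, map_pow, aeval_X, aeval_C, map_one, sub_eq_zero, endOf, ← Matrix.toLin'_pow,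
    ← Units.val_pow_eq_pow_val, pow_orderOf_eq_one, Units.val_one, Matrix.toLin'_one]
  rfl

omit [Fintype F] in
theorem charpoly_itop (x : GL (Fin n) F) :
    (res (endOf x) (itop x)).charpoly = (x : Matrix (Fin n) (Fin n) F).charpoly := by
  have h : (Submodule.topEquiv (R := F) (M := Fin n → F)).conj (res (endOf x) (itop x)) = endOf x :=
    LinearMap.ext fun v => rfl
  rw [← LinearEquiv.charpoly_conj (Submodule.topEquiv (R := F) (M := Fin n → F)), h]
  rw [endOf, Matrix.charpoly_toLin']

theorem steinberg_value [DecidableEq F] (p : ℕ) [Fact p.Prime] [CharP F p] {x : GL (Fin n) F}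
    (hx : (orderOf x).Coprime p) :
    Cfsg.unipotentCharacterGL n F (fun _ => 1) x =
      ∏ f ∈ (normalizedFactors (x : Matrix (Fin n) (Fin n) F).charpoly).toFinset,
        (-1 : ℂ) ^ ((f.natDegree - 1) * (normalizedFactors (x : Matrix (Fin n) (Fin n) F).charpoly).count f) *
          (Fintype.card F : ℂ) ^ (f.natDegree * (normalizedFactors (x : Matrix (Fin n) (Fin n) F).charpoly).count f *
            ((normalizedFactors (x : Matrix (Fin n) (Fin n) F).charpoly).count f - 1) / 2) := by
  rw [steinberg_eq_mu, (mu_eval (endOf x) (endOf_semisimple p hx) (itop x)).2, charpoly_itop]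
  set χ := (x : Matrix (Fin n) (Fin n) F).charpoly
  set M := normalizedFactors χ with hM
  have hmon : χ.Monic := Matrix.charpoly_monic _
  have hprod : M.prod = χ := by rw [hM, prod_normalizedFactors_eq hmon.ne_zero, hmon.normalize_eq_self]
  have hdeg : ∑ f ∈ M.toFinset, M.count f * f.natDegree = n := by
    have h1 := natDegree_multiset_prod M fun h => zero_notMem_normalizedFactors χ h
    rw [hprod, Matrix.charpoly_natDegree_eq_dim, Fintype.card_fin, Finset.sum_multiset_map_count] at h1
    simpa [smul_eq_mul] using h1.symm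
  have hexp : mExp M = ∑ f ∈ M.toFinset, f.natDegree * M.count f * (M.count f - 1) / 2 := by
    unfold mExp
    rw [Subsingleton.elim (Classical.decEq F[X]) _]
    refine Finset.sum_congr rfl fun f _ => ?_
    rw [Nat.choose_two_right, mul_assoc, Nat.mul_div_assoc _ (Nat.even_mul_pred_self _).two_dvd]
  rw [Finset.prod_mul_distrib, Finset.prod_pow_eq_pow_sum, Finset.prod_pow_eq_pow_sum, ← hexp,
    Nat.card_eq_fintype_card]
  push_cast
  rw [← mul_assoc, ← pow_add, neg_one_pow_eq_pow_mod_two (n + _),
    neg_one_pow_eq_pow_mod_two (∑ f ∈ M.toFinset, (f.natDegree - 1) * M.count f)]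
  congr 2
  have hcard : ∑ f ∈ M.toFinset, M.count f = M.card := Multiset.toFinset_sum_count_eq M
  have h2 : ∑ f ∈ M.toFinset, (f.natDegree - 1) * M.count f + M.card = n := by
    rw [← hcard, ← Finset.sum_add_distrib, ← hdeg]
    refine Finset.sum_congr rfl fun f hf => ?_
    have h3 : 0 < f.natDegree :=
      (irreducible_of_normalized_factor f (Multiset.mem_toFinset.1 hf)).natDegree_pos
    obtain ⟨d, hd⟩ := Nat.exists_eq_add_of_le h3
    rw [hd, Nat.add_sub_cancel_left]
    ring
  omega

end Cfsg.Lib.FlagCells
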